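/-
³D₄(q): the entrywise field automorphism on the twisted group, and parametrisations of the short classes in
any characteristic.
-/
import Cfsg.Agent.Lib.Chev.D4Stem.Chars
import Cfsg.Agent.Lib.Chev.FieldAutFixed
import Cfsg.Agent.Lib.Chev.GraphAut

set_option autoImplicit false

namespace Cfsg.Agent.D4Sub

open Cfsg.Lie Cfsg.Agent.Chev
open Cfsg.Agent.RootBN (Data)
open Cfsg.Agent.Chev.BNSetup (tw3D4 orbD4 orbD4_ok facts_chevD4 negTri_chevD4 graphD4_cols xg_eq_xe entryMap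
  ne' xe GraphTab graphD4)
open Cfsg.Agent.D4Invol (hn hk hT hax eA eC eD eA_mem exists_eA xB_mem exists_xB)
open Cfsg.Agent.D4Stem (pr pr_cons pr_nil pr_inj rootsAt Xo Xp pos)
open scoped Matrix

variable {K : Type*} [Field K]

/-- The root element. -/
local notation "X" => xg chevD4 K

variable (φ : K ≃+* K)

/-- The field automorphism applied to the entries. -/
noncomputable def theta : GL chevD4.Idx K →* GL chevD4.Idx K := entryMap chevD4 (φ : K →+* K)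

/-- The elements fixed by it. -/
noncomputable def fixT : Subgroup (GL chevD4.Idx K) := (theta φ).eqLocus (MonoidHom.id _)

theorem mem_fixT {g : GL chevD4.Idx K} : g ∈ fixT φ ↔ theta φ g = g := Iff.rfl

@[simp] theorem theta_xg (r : ℕ) (t : K) : theta φ (X r t) = X r (φ t) := by
  rw [xg_eq_xe D4.good, xg_eq_xe D4.good]
  exact BNSetup.entryMap_xe D4.good _ r t

theorem theta_ne (r : ℕ) : theta φ (ne' D4.good r (1 : K)) = ne' D4.good r (1 : K) := by
  simp only [ne', map_mul, theta]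
  rw [BNSetup.entryMap_xe, BNSetup.entryMap_xe]
  simp

theorem theta_nn' (j : Fin 2) : theta φ ((tw3D4 φ).nn' j) = (tw3D4 φ).nn' j := by
  rw [show tw3D4 φ = BNSetup.twist D4.good orbD4_ok φ from rfl, BNSetup.nn'_eq, map_list_prod, List.map_map]
  exact congrArg List.prod (List.map_congr_left fun k _ => theta_ne φ _)

theorem nn_mem_Gt (j : Fin 2) : (tw3D4 φ).nn' j ∈ (tw3D4 φ).Gt := (hT φ).nn'_mem j

theorem nn_mem_fixT (j : Fin 2) : (tw3D4 φ).nn' j ∈ fixT φ := theta_nn' φ j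

theorem theta_sigma (g : GL chevD4.Idx K) : theta φ ((tw3D4 φ).σ g) = (tw3D4 φ).σ (theta φ g) := by
  show theta φ (GraphTab.aut orbD4_ok.1 φ g) = GraphTab.aut orbD4_ok.1 φ (theta φ g)
  rw [GraphTab.aut_apply, GraphTab.aut_apply, map_mul, map_mul, map_inv]
  have hU : theta φ (GraphTab.unit orbD4_ok.1 K) = GraphTab.unit orbD4_ok.1 K := by
    refine Units.ext (Matrix.ext fun i j => ?_)
    show φ (GraphTab.mat _ chevD4 K i j) = GraphTab.mat _ chevD4 K i j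
    simp only [GraphTab.mat, Matrix.of_apply]
    split_ifs <;> simp
  rw [hU]
  rfl

theorem theta_Xorb {o : Fin 12} {y : GL chevD4.Idx K} (hy : y ∈ (tw3D4 φ).Xorb o) :
    theta φ y ∈ (tw3D4 φ).Xorb o :=
  (show (tw3D4 φ).Xorb o ≤ ((tw3D4 φ).Xorb o).comap (theta φ) from
    D4Stem.Xorb_le_of φ o fun r hr t => by
      rw [Subgroup.mem_comap, theta_xg]
      exact D4Stem.xg_mem_Xorb φ r.2 hr _) hy

theorem theta_X' {o : Fin 12} {y : GL chevD4.Idx K} (hy : y ∈ (tw3D4 φ).X' o) :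
    theta φ y ∈ (tw3D4 φ).X' o :=
  ⟨theta_Xorb φ hy.1, RootBN.Twist.mem_Fix.2 (by rw [← theta_sigma, RootBN.Twist.mem_Fix.1 hy.2])⟩

theorem theta_Gt {y : GL chevD4.Idx K} (hy : y ∈ (tw3D4 φ).Gt) : theta φ y ∈ (tw3D4 φ).Gt :=
  (show (tw3D4 φ).Gt ≤ (tw3D4 φ).Gt.comap (theta φ) from
    iSup_le fun o _ hz => RootBN.Twist.X'_le_Gt o (theta_X' φ hz)) hy

theorem theta_torusHom (c : Fin chevD4.rank → Kˣ) :
    theta φ (BNSetup.torusHom K chevD4 c) =
      BNSetup.torusHom K chevD4 (fun i => Units.map (φ : K →* K) (c i)) := by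
  refine Units.ext ?_
  show (BNSetup.torusHom K chevD4 c : Matrix chevD4.Idx chevD4.Idx K).map φ = _
  rw [BNSetup.coe_torusHom, BNSetup.coe_torusHom]
  ext i j
  rcases i with i | i <;> rcases j with j | j <;>
    simp [hdiag, Matrix.diagonal, BNSetup.torusChar, apply_ite φ, map_prod, map_zpow₀,
      Units.val_zpow_eq_zpow_val]

theorem theta_H {y : GL chevD4.Idx K} (hy : y ∈ (tw3D4 φ).data.H) : theta φ y ∈ (tw3D4 φ).data.H := by
  refine ⟨?_, theta_Gt φ hy.2⟩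
  have := hy.1
  change y ∈ chevD4.diagonalSubgroup K at this
  show theta φ y ∈ chevD4.diagonalSubgroup K
  rw [BNSetup.diagonal_eq_range D4.good] at this ⊢
  obtain ⟨c, rfl⟩ := this
  exact ⟨_, (theta_torusHom φ c).symm⟩

theorem theta_U {y : GL chevD4.Idx K} (hy : y ∈ (tw3D4 φ).data.U) : theta φ y ∈ (tw3D4 φ).data.U :=
  (show (tw3D4 φ).data.U ≤ (tw3D4 φ).data.U.comap (theta φ) from
    iSup₂_le fun _ ho _ hz => Data.X_le_U ho (theta_X' φ hz)) hy

theorem theta_B {y : GL chevD4.Idx K} (hy : y ∈ (tw3D4 φ).data.B) : theta φ y ∈ (tw3D4 φ).data.B := by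
  obtain ⟨u, hu, h, hh, rfl⟩ := (Data.mem_B_iff (hax φ)).1 hy
  rw [map_mul]
  exact Subgroup.mul_mem _ (Data.U_le_B (theta_U φ hu)) (Data.H_le_B (theta_H φ hh))

/-- The image of a root under a chain of reflections. -/
noncomputable def chainTo (l : List ℕ) (s : ℕ) : ℕ := l.foldr (fun i x => chevD4.reflectRoot i x) s

theorem chainTo_lt {l : List ℕ} (hl : ∀ i ∈ l, i < 4) {s : ℕ} (hs : s < 24) : chainTo l s < 24 := by
  induction l with
  | nil => exact hs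
  | cons i l ih =>
    rw [← hn]
    exact D4.good.reflectRoot_lt (hk ▸ hl i List.mem_cons_self)
      (hn.symm ▸ ih fun j hj => hl j (List.mem_cons_of_mem _ hj))

theorem chain_conj {l : List ℕ} (hl : ∀ i ∈ l, i < 4) {s : ℕ} (hs : s < 24) :
    ∃ e : K, e * e = 1 ∧ φ e = e ∧ ∀ t, (l.map fun k => ne' D4.good (chevD4.simple k) (1 : K)).prod * X s t *
      ((l.map fun k => ne' D4.good (chevD4.simple k) (1 : K)).prod)⁻¹ = X (chainTo l s) (e * t) := by
  induction l with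
  | nil => exact ⟨1, one_mul _, map_one _, fun t => by simp [chainTo]⟩
  | cons i l ih =>
    obtain ⟨e, he, hφe, ih⟩ := ih fun j hj => hl j (List.mem_cons_of_mem _ hj)
    have hs' : chainTo l s < chevD4.nroots :=
      hn.symm ▸ chainTo_lt (fun j hj => hl j (List.mem_cons_of_mem _ hj)) hs
    obtain ⟨f, hf, hx, -⟩ := BNSetup.exists_conj D4.good (F := K)
      (hk.symm ▸ hl i List.mem_cons_self : i < chevD4.rank) hs'
    refine ⟨f * e, by linear_combination f * f * he + hf, ?_, fun t => ?_⟩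
    · rw [map_mul, hφe]
      rcases mul_self_eq_one_iff.1 hf with rfl | rfl <;> simp
    · rw [List.map_cons, List.prod_cons, mul_inv_rev]
      calc ne' D4.good (chevD4.simple i) (1 : K) * (l.map fun k => ne' D4.good (chevD4.simple k) (1 : K)).prod *
            X s t * (((l.map fun k => ne' D4.good (chevD4.simple k) (1 : K)).prod)⁻¹ *
              (ne' D4.good (chevD4.simple i) (1 : K))⁻¹)
          = ne' D4.good (chevD4.simple i) (1 : K) * ((l.map fun k => ne' D4.good (chevD4.simple k) (1 : K)).prod *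
            X s t * ((l.map fun k => ne' D4.good (chevD4.simple k) (1 : K)).prod)⁻¹) *
              (ne' D4.good (chevD4.simple i) (1 : K))⁻¹ := by group
        _ = _ := by
          rw [ih, xg_eq_xe D4.good, xg_eq_xe D4.good, hx, mul_assoc]
          rfl

theorem nn_conj_xg' (j : Fin 2) {s : ℕ} (hs : s < 24) :
    ∃ e : K, e * e = 1 ∧ φ e = e ∧ ∀ t, (tw3D4 φ).nn' j * X s t * ((tw3D4 φ).nn' j)⁻¹ =
      X (chainTo (orbD4.Jl 2 j) s) (e * t) := by
  have hl : ∀ j : Fin 2, ∀ i ∈ orbD4.Jl 2 j, i < 4 := by decide +kernel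
  obtain ⟨e, he, hφe, h⟩ := chain_conj φ (l := orbD4.Jl 2 j) (hl j) hs
  refine ⟨e, he, hφe, fun t => ?_⟩
  rw [show tw3D4 φ = BNSetup.twist D4.good orbD4_ok φ from rfl, BNSetup.nn'_eq]
  exact h t

theorem chain_table :
    chainTo (orbD4.Jl 2 0) 18 = 19 ∧ chainTo (orbD4.Jl 2 0) 13 = 16 ∧ chainTo (orbD4.Jl 2 0) 12 = 15 ∧
    chainTo (orbD4.Jl 2 1) 19 = 17 ∧ chainTo (orbD4.Jl 2 1) 16 = 20 ∧ chainTo (orbD4.Jl 2 1) 15 = 21 ∧
    chainTo (orbD4.Jl 2 1) 14 = 22 ∧ chainTo (orbD4.Jl 2 0) 22 = 23 ∧ chainTo (orbD4.Jl 2 1) 22 = 14 ∧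
    chainTo (orbD4.Jl 2 1) 23 = 23 := by decide +kernel

/-- Signed parameters along a class. -/
noncomputable def eSign (a b c : ℕ) (e₁ e₂ e₃ : K) (t : K) : GL chevD4.Idx K :=
  X a (e₁ * t) * (X b (e₂ * φ t) * X c (e₃ * φ (φ t)))

theorem conj_three {G : Type*} [Group G] (n a b c : G) :
    n * (a * (b * c)) * n⁻¹ = (n * a * n⁻¹) * ((n * b * n⁻¹) * (n * c * n⁻¹)) := by group

/-- The signs of the class of `a + b`. -/
theorem exists_signs4 : ∃ e₁ e₂ e₃ : K, (e₁ * e₁ = 1 ∧ φ e₁ = e₁) ∧ (e₂ * e₂ = 1 ∧ φ e₂ = e₂) ∧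
    (e₃ * e₃ = 1 ∧ φ e₃ = e₃) ∧
    ∀ t, (tw3D4 φ).nn' 0 * eA φ t * ((tw3D4 φ).nn' 0)⁻¹ = eSign φ 19 16 15 e₁ e₂ e₃ t := by
  obtain ⟨a, ha, ha', h1⟩ := nn_conj_xg' φ 0 (s := 18) (by omega)
  obtain ⟨b, hb, hb', h2⟩ := nn_conj_xg' φ 0 (s := 13) (by omega)
  obtain ⟨c, hc, hc', h3⟩ := nn_conj_xg' φ 0 (s := 12) (by omega)
  refine ⟨a, b, c, ⟨ha, ha'⟩, ⟨hb, hb'⟩, ⟨hc, hc'⟩, fun t => ?_⟩
  obtain ⟨c1, c2, c3, -⟩ := chain_table
  rw [eA, conj_three, h1, h2, h3, c1, c2, c3, eSign]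

variable (hcube : ∀ x, φ (φ (φ x)) = x)
include hcube

/-- The elements of the class of `a + b`. -/
theorem exists_place4 {y : GL chevD4.Idx K} (hy : y ∈ Xp φ 4) :
    ∃ e₁ e₂ e₃ t : K, (e₁ * e₁ = 1 ∧ φ e₁ = e₁) ∧ (e₂ * e₂ = 1 ∧ φ e₂ = e₂) ∧ (e₃ * e₃ = 1 ∧ φ e₃ = e₃) ∧
      y = eSign φ 19 16 15 e₁ e₂ e₃ t := by
  obtain ⟨e₁, e₂, e₃, h1, h2, h3, hconj⟩ := exists_signs4 φ
  set n := (tw3D4 φ).nn' 0
  have hmem : n⁻¹ * y * n ∈ (tw3D4 φ).X' 6 := by
    refine ((RootBN.Data.acts_nw (hax φ) [(0 : Fin 2)]) 6 _).1 ?_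
    have e : (tw3D4 φ).data.wl [(0 : Fin 2)] (6 : Fin 12) = pos 4 := by
      rw [D4Invol.wl_apply]
      show orbD4.reflF 12 2 0 6 = D4Stem.posList.getD 4 7
      decide +kernel
    rw [e, show (tw3D4 φ).data.nw [(0 : Fin 2)] = n by simp [RootBN.Data.nw_cons]; rfl,
      show n * (n⁻¹ * y * n) * n⁻¹ = y by group]
    exact hy
  obtain ⟨t, ht⟩ := exists_eA φ hmem
  refine ⟨e₁, e₂, e₃, t, h1, h2, h3, ?_⟩
  rw [← hconj, ← ht]
  group

omit hcube in
theorem eA_eq_pr (t : K) :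
    eA φ t = pr (rootsAt 0) (fun r => if r = 18 then t else if r = 13 then φ t else φ (φ t)) := by
  simp [eA, rootsAt]

omit hcube in
theorem eSign_eq_pr (e₁ e₂ e₃ t : K) : eSign φ 19 16 15 e₁ e₂ e₃ t =
    pr (rootsAt 4) (fun r => if r = 19 then e₁ * t else if r = 16 then e₂ * φ t else e₃ * φ (φ t)) := by
  simp [eSign, rootsAt]

theorem eA_mem' (t : K) : eA φ t ∈ (tw3D4 φ).Gt := RootBN.Twist.X'_le_Gt _ (eA_mem φ hcube t)

omit hcube in
theorem xB_mem' {s : K} (hs : φ s = s) : X 14 s ∈ (tw3D4 φ).Gt := RootBN.Twist.X'_le_Gt _ (xB_mem φ hs)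

omit hcube in
theorem xB_fix {s : K} (hs : φ s = s) : X 14 s ∈ fixT φ := by rw [mem_fixT, theta_xg, hs]

omit hcube in
theorem eA_fix_iff {t : K} : eA φ t ∈ fixT φ ↔ φ t = t := by
  rw [mem_fixT, eA, map_mul, map_mul, theta_xg, theta_xg, theta_xg]
  constructor
  · intro h
    have h' : eA φ (φ t) = eA φ t := by simpa [eA] using h
    rw [eA_eq_pr, eA_eq_pr] at h'
    obtain ⟨-, h2, h3, h4⟩ := D4Stem.rootsAt_check 0
    have := pr_inj _ (fun r hr => ⟨(h2 r hr).1, (h2 r hr).2.1⟩) h3 (fun a ha b hb => (h4 a ha b hb).2.1) _ _ h'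
      18 (by simp [rootsAt])
    simpa using this
  · intro h
    rw [h, h, h]

end Cfsg.Agent.D4Sub
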