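/-
³D₄(q): the first coordinates of the commutators with the two regular root elements.
-/
import Cfsg.Agent.Lib.Chev.D4Subfield.Basic
import Cfsg.Agent.Lib.Chev.D4Stem.Comm

set_option autoImplicit false

namespace Cfsg.Agent.D4Sub

open Cfsg.Lie Cfsg.Agent.Chev Cfsg.Agent.Chev.Invol
open Cfsg.Agent.D4Invol (hn hk eA)
open Cfsg.Agent.Chev.BNSetup (facts_chevD4)
open Cfsg.Agent.Schur.RootLift (V le_V V_mono)
open Cfsg.Agent.D4Stem (pr rootsAt Xo Xp)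
open scoped commutatorElement

variable {K : Type*} [Field K]

/-- The root element. -/
local notation "X" => xg chevD4 K

/-- The positive roots. -/
def allPos : List ℕ := [12, 13, 14, 15, 16, 17, 18, 19, 20, 21, 22, 23]

/-- The places below the class of `a + b`. -/
def lowS : List ℕ := [17, 20, 21, 22, 23]

/-- The long classes below the class of `2a + b`. -/
def lowZ : List ℕ := [22, 23]

theorem norm_check : ∀ S ∈ [lowS, lowZ], ∀ r ∈ allPos, r < 24 ∧ ∀ s ∈ S, s < 24 ∧ s ∈ allPos ∧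
    s ≠ D4.cert.ng r ∧ ∀ x ∈ D4.cert.comm r s, x.1 ∈ S := by decide +kernel

theorem normal_of_list {S : List ℕ} (hS : S ∈ [lowS, lowZ]) :
    ((gen chevD4 K S).subgroupOf (gen chevD4 K allPos)).Normal := by
  refine ⟨fun y hy g => ?_⟩
  rw [Subgroup.mem_subgroupOf] at hy ⊢
  obtain ⟨g, hg⟩ := g
  suffices key : Normalises g (gen chevD4 K S) ∧ Normalises g⁻¹ (gen chevD4 K S) from key.1 _ hy
  clear hy y
  induction hg using Subgroup.closure_induction with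
  | mem x hx =>
    obtain ⟨r, hr, t, rfl⟩ := hx
    obtain ⟨hr', hs'⟩ := norm_check S hS r hr
    have hN : ∀ a : K, Normalises (X r a) (gen chevD4 K S) := fun a =>
      normalises_xg D4.valid (hn ▸ hr') (fun s hs => ⟨hn ▸ (hs' s hs).1, (hs' s hs).2.2.1, (hs' s hs).2.2.2⟩) a
    exact ⟨hN t, (D4.good : Good chevD4).xg_inv r t ▸ hN (-t)⟩
  | one => exact ⟨fun y hy => by simpa using hy, fun y hy => by simpa using hy⟩
  | mul x y _ _ ihx ihy => exact ⟨ihx.1.mul ihy.1, by rw [mul_inv_rev]; exact ihy.2.mul ihx.2⟩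
  | inv x _ ih => exact ⟨ih.2, by rw [inv_inv]; exact ih.1⟩

/-- Classes lie among the positive roots. -/
theorem Xo_le_all (φ : K ≃+* K) (i : Fin 6) : Xo φ i.val ≤ gen chevD4 K allPos := by
  intro y hy
  obtain ⟨t, rfl⟩ := D4Stem.exists_pr φ i hy
  refine Subgroup.list_prod_mem _ fun z hz => ?_
  obtain ⟨r, hr, rfl⟩ := List.mem_map.1 hz
  exact xg_mem_gen ((by decide +kernel : ∀ i : Fin 6, ∀ r ∈ rootsAt i.val, r ∈ allPos) i r hr) _

theorem V_le_all (φ : K ≃+* K) {a b : ℕ} (hb : b ≤ 6) : V (Xp φ) a b ≤ gen chevD4 K allPos :=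
  iSup₂_le fun c hc => (D4Stem.Xp_le φ c).trans (Xo_le_all φ ⟨c, lt_of_lt_of_le hc.2 hb⟩)

/-- Bilinearity of commutators with central values. -/
theorem comm_bilinear {G : Type*} [Group G] {b c d x y z p₁ p₂ p₃ p₄ p₅ p₆ : G}
    (hbx : Commute b x) (hby : ⁅b, y⁆ = p₁) (hbz : ⁅b, z⁆ = p₂)
    (hcx : ⁅c, x⁆ = p₃) (hcy : Commute c y) (hcz : ⁅c, z⁆ = p₄)
    (hdx : ⁅d, x⁆ = p₅) (hdy : ⁅d, y⁆ = p₆) (hdz : Commute d z)
    (hcen : ∀ p, p = p₁ ∨ p = p₂ ∨ p = p₃ ∨ p = p₄ ∨ p = p₅ ∨ p = p₆ →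
      ∀ g, g = b ∨ g = c ∨ g = d ∨ g = x ∨ g = y ∨ g = z → Commute p g) :
    ⁅b * (c * d), x * (y * z)⁆ = (p₅ * p₆) * (p₃ * p₄) * (p₁ * p₂) := by
  have right : ∀ g, (g = b ∨ g = c ∨ g = d) → ∀ r₁ r₂ r₃, ⁅g, x⁆ = r₁ → ⁅g, y⁆ = r₂ → ⁅g, z⁆ = r₃ →
      Commute r₂ x → Commute r₃ x → Commute r₃ y → ⁅g, x * (y * z)⁆ = r₁ * (r₂ * r₃) := by
    intro g _ r₁ r₂ r₃ h₁ h₂ h₃ k₁ k₂ k₃
    calc ⁅g, x * (y * z)⁆ = ⁅g, x⁆ * (x * ⁅g, y⁆ * (y * ⁅g, z⁆ * y⁻¹) * x⁻¹) := by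
          simp only [commutatorElement_def]; group
      _ = r₁ * (x * r₂ * r₃ * x⁻¹) := by
          rw [h₁, h₂, h₃, ← k₃.eq, mul_inv_cancel_right]
      _ = r₁ * (r₂ * r₃) := by
          rw [mul_assoc x r₂, ← (k₁.mul_left k₂).eq, mul_inv_cancel_right]
  have triv : ∀ {g k : G}, Commute g k → ⁅g, k⁆ = 1 := fun h => commutatorElement_eq_one_iff_commute.2 h
  have eb := right b (Or.inl rfl) 1 p₁ p₂ (triv hbx) hby hbz (hcen p₁ (by simp) x (by simp))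
    (hcen p₂ (by simp) x (by simp)) (hcen p₂ (by simp) y (by simp))
  have ec := right c (Or.inr (Or.inl rfl)) p₃ 1 p₄ hcx (triv hcy) hcz (Commute.one_left _)
    (hcen p₄ (by simp) x (by simp)) (hcen p₄ (by simp) y (by simp))
  have ed := right d (Or.inr (Or.inr rfl)) p₅ p₆ 1 hdx hdy (triv hdz) (hcen p₆ (by simp) x (by simp))
    (Commute.one_left _) (Commute.one_left _)
  simp only [mul_one, one_mul] at eb ec ed
  have cd1 : Commute c (p₅ * p₆) :=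
    ((hcen p₅ (by simp) c (by simp)).mul_left (hcen p₆ (by simp) c (by simp))).symm
  have cb1 : Commute b (p₅ * p₆) :=
    ((hcen p₅ (by simp) b (by simp)).mul_left (hcen p₆ (by simp) b (by simp))).symm
  have cb2 : Commute b (p₃ * p₄) :=
    ((hcen p₃ (by simp) b (by simp)).mul_left (hcen p₄ (by simp) b (by simp))).symm
  calc ⁅b * (c * d), x * (y * z)⁆
      = b * (c * ⁅d, x * (y * z)⁆ * c⁻¹ * ⁅c, x * (y * z)⁆) * b⁻¹ * ⁅b, x * (y * z)⁆ := by
        simp only [commutatorElement_def]; group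
    _ = b * (p₅ * p₆ * (p₃ * p₄)) * b⁻¹ * (p₁ * p₂) := by rw [eb, ec, ed, cd1.eq, mul_inv_cancel_right]
    _ = _ := by rw [(cb1.mul_right cb2).eq, mul_inv_cancel_right]

set_option synthInstance.maxSize 2000 in
theorem coord_facts :
    chevD4.commTerms 14 18 = [(19, 1, 1, 1)] ∧ chevD4.commTerms 14 13 = [(16, -1, 1, 1)] ∧
    chevD4.commTerms 14 12 = [(15, -1, 1, 1)] ∧
    chevD4.commTerms 18 16 = [(21, -1, 1, 1)] ∧ chevD4.commTerms 18 15 = [(20, -1, 1, 1)] ∧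
    chevD4.commTerms 13 19 = [(21, 1, 1, 1)] ∧ chevD4.commTerms 13 15 = [(17, 1, 1, 1)] ∧
    chevD4.commTerms 12 19 = [(20, 1, 1, 1)] ∧ chevD4.commTerms 12 16 = [(17, 1, 1, 1)] := by decide +kernel

/-- Commuting modulo a list. -/
theorem comm_mem {r s : ℕ} (hr : r < 24) (hs : s < 24) (h1 : s ≠ r) (h2 : s ≠ chevD4.neg r) {S : List ℕ}
    (hS : ∀ x ∈ chevD4.commTerms r s, x.1 ∈ S) (t u : K) : ⁅X r t, X s u⁆ ∈ gen chevD4 K S := by
  have hD : Good chevD4 := D4.good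
  have e := hD.xg_commutator (hn.symm ▸ hr) (hn.symm ▸ hs) h1 h2 (-t) (-u)
  rw [hD.xg_inv, hD.xg_inv, _root_.neg_neg, _root_.neg_neg] at e
  have hw : wordG chevD4 K (chevD4.commWord K r s (-t) (-u)) ∈ gen chevD4 K S := by
    refine Subgroup.list_prod_mem _ fun x hx => ?_
    simp only [ChevalleyDatum.commWord, List.map_map, List.mem_map, Function.comp_apply] at hx
    obtain ⟨y, hy, rfl⟩ := hx
    exact xg_mem_gen (hS y hy) _
  have e' : ⁅X r t, X s u⁆ = (X s u * X r t * X s (-u) * X r (-t))⁻¹ := by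
    simp only [commutatorElement_def, mul_inv_rev, hD.xg_inv, _root_.neg_neg, mul_assoc]
  rw [e', e]
  exact Subgroup.inv_mem _ hw

theorem lowS_check : (∀ p ∈ [(18, 16), (18, 15), (13, 15), (18, 19), (13, 16), (12, 15), (14, 17), (14, 20),
      (14, 21), (14, 22), (14, 23), (14, 19), (14, 16), (14, 15), (18, 13), (18, 12), (13, 12), (19, 16), (19, 15), (16, 15)],
      p.1 < 24 ∧ p.2 < 24 ∧ p.2 ≠ p.1 ∧ p.2 ≠ chevD4.neg p.1 ∧
        ∀ x ∈ chevD4.commTerms p.1 p.2, x.1 ∈ lowS) ∧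
    (∀ p ∈ [(18, 19), (13, 16), (12, 15)], p.1 < 24 ∧ p.2 < 24 ∧ p.2 ≠ p.1 ∧ p.2 ≠ chevD4.neg p.1 ∧
        ∀ x ∈ chevD4.commTerms p.1 p.2, x.1 ∈ lowZ) ∧
    (∀ r ∈ [17, 20, 21], ∀ s ∈ [18, 13, 12, 19, 16, 15], r < 24 ∧ s < 24 ∧ s ≠ r ∧ s ≠ chevD4.neg r ∧
        ∀ x ∈ chevD4.commTerms r s, x.1 ∈ lowZ) := by decide +kernel

theorem zero_of_low {a b c : ℕ} {S : List ℕ}
    (h : (a, b, c, S) ∈ [(19, 16, 15, lowS), (17, 20, 21, lowZ)]) {u v w : K}
    (hm : X a u * (X b v * X c w) ∈ gen chevD4 K S) : u = 0 ∧ v = 0 ∧ w = 0 := by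
  have hchk : ∀ p ∈ [(19, 16, 15, lowS), (17, 20, 21, lowZ)],
      p.1 < 24 ∧ p.2.1 < 24 ∧ p.2.2.1 < 24 ∧ 12 ≤ p.1 ∧ 12 ≤ p.2.1 ∧ 12 ≤ p.2.2.1 ∧
      p.1 ≠ p.2.1 ∧ p.1 ≠ p.2.2.1 ∧ p.2.1 ≠ p.2.2.1 ∧
      p.1 ∉ p.2.2.2 ∧ p.2.1 ∉ p.2.2.2 ∧ p.2.2.1 ∉ p.2.2.2 ∧
      (∀ s ∈ p.2.1 :: p.2.2.1 :: p.2.2.2, s < 24 ∧ 12 ≤ s) ∧
      (∀ r ∈ p.2.1 :: p.2.2.1 :: p.2.2.2, ∀ s ∈ p.2.1 :: p.2.2.1 :: p.2.2.2, ∀ x ∈ D4.cert.comm r s,
        x.1 ∈ p.2.1 :: p.2.2.1 :: p.2.2.2) ∧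
      (∀ r ∈ p.2.2.1 :: p.2.2.2, ∀ s ∈ p.2.2.1 :: p.2.2.2, ∀ x ∈ D4.cert.comm r s, x.1 ∈ p.2.2.1 :: p.2.2.2) ∧
      (∀ r ∈ p.2.2.2, ∀ s ∈ p.2.2.2, ∀ x ∈ D4.cert.comm r s, x.1 ∈ p.2.2.2) := by decide +kernel
  obtain ⟨ha, hb, hc, ha', hb', hc', hab, hac, hbc, haS, hbS, hcS, hlt, cl1, cl2, cl3⟩ := hchk _ h
  simp only at ha hb hc ha' hb' hc' hab hac hbc haS hbS hcS hlt cl1 cl2 cl3
  have hmono : gen chevD4 K S ≤ gen chevD4 K (b :: c :: S) := gen_mono fun r hr => by simp [hr]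
  have hb0 : X b v * X c w ∈ gen chevD4 K (b :: c :: S) :=
    Subgroup.mul_mem _ (xg_mem_gen (by simp) _) (xg_mem_gen (by simp) _)
  have e1 : u = 0 := eq_zero_of_mem_gen D4.valid facts_chevD4 (S := b :: c :: S)
    (fun s hs => by rw [hn]; exact ⟨(hlt s hs).1, (hlt s hs).2⟩) cl1 (hn.symm ▸ ha) (by rw [hn]; omega)
    (by simp [hab, hac, haS]) ((Subgroup.mul_mem_cancel_right _ hb0).1 (hmono hm))
  subst e1
  rw [(D4.good : Good chevD4).xg_zero, one_mul] at hm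
  have e2 : v = 0 := eq_zero_of_mem_gen D4.valid facts_chevD4 (S := c :: S)
    (fun s hs => by rw [hn]; exact ⟨(hlt s (by simp [List.mem_cons.1 hs])).1, (hlt s (by simp [List.mem_cons.1 hs])).2⟩)
    cl2 (hn.symm ▸ hb) (by rw [hn]; omega) (by simp [hbc, hbS])
    ((Subgroup.mul_mem_cancel_right _ (xg_mem_gen (by simp) _)).1
      ((gen_mono fun r hr => by simp [hr] : gen chevD4 K S ≤ gen chevD4 K (c :: S)) hm))
  subst e2
  rw [(D4.good : Good chevD4).xg_zero, one_mul] at hm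
  exact ⟨rfl, rfl, eq_zero_of_mem_gen D4.valid facts_chevD4 (S := S)
    (fun s hs => by rw [hn]; exact ⟨(hlt s (by simp [hs])).1, (hlt s (by simp [hs])).2⟩)
    cl3 (hn.symm ▸ hc) (by rw [hn]; omega) hcS hm⟩

section quot

variable {S : List ℕ} [((gen chevD4 K S).subgroupOf (gen chevD4 K allPos)).Normal]

/-- The class modulo `gen S`. -/
noncomputable def pi (S : List ℕ) [((gen chevD4 K S).subgroupOf (gen chevD4 K allPos)).Normal] :
    ↥(gen chevD4 K allPos) →* ↥(gen chevD4 K allPos) ⧸ (gen chevD4 K S).subgroupOf (gen chevD4 K allPos) :=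
  QuotientGroup.mk' _

theorem pi_eq_one {g : ↥(gen chevD4 K allPos)} :
    pi S g = 1 ↔ (g : GL chevD4.Idx K) ∈ gen chevD4 K S := by
  rw [pi, QuotientGroup.mk'_apply, QuotientGroup.eq_one_iff, Subgroup.mem_subgroupOf]

/-- A positive root element. -/
noncomputable def el (r : ℕ) (hr : r ∈ allPos) (t : K) : ↥(gen chevD4 K allPos) :=
  ⟨X r t, xg_mem_gen hr t⟩

theorem pi_comm {r s k : ℕ} (hr : r ∈ allPos) (hs : s ∈ allPos) (hk' : k ∈ allPos) {c : ℤ}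
    (h : chevD4.commTerms r s = [(k, c, 1, 1)]) (h1 : s ≠ r) (h2 : s ≠ chevD4.neg r) (t u : K) :
    ⁅pi S (el r hr t), pi S (el s hs u)⁆ = pi S (el k hk' ((c : K) * (t * u))) := by
  have hlt : ∀ r ∈ allPos, r < 24 := by decide +kernel
  rw [← map_commutatorElement]
  exact congrArg _ (Subtype.ext (D4Stem.comm_word (hlt r hr) (hlt s hs) h1 h2 h t u))

theorem pi_commute {r s : ℕ} (hr : r ∈ allPos) (hs : s ∈ allPos) (h1 : s ≠ r) (h2 : s ≠ chevD4.neg r)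
    (h : ∀ x ∈ chevD4.commTerms r s, x.1 ∈ S) (t u : K) : Commute (pi S (el r hr t)) (pi S (el s hs u)) := by
  have hlt : ∀ r ∈ allPos, r < 24 := by decide +kernel
  rw [← commutatorElement_eq_one_iff_commute, ← map_commutatorElement, pi_eq_one]
  exact comm_mem (hlt r hr) (hlt s hs) h1 h2 h t u

theorem pi_low {r : ℕ} (hr : r ∈ allPos) (h : r ∈ S) (t : K) : pi S (el r hr t) = 1 :=
  pi_eq_one.2 (xg_mem_gen h t)

theorem el_add (r : ℕ) (hr : r ∈ allPos) (t u : K) : el r hr t * el r hr u = el r hr (t + u) :=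
  Subtype.ext ((D4.good : Good chevD4).xg_add r t u)

end quot

variable (φ : K ≃+* K)

/-- Commuting with the long simple root element kills the first coordinate. -/
theorem first_zero {δ c₀ : K} (hc₀ : c₀ ≠ 0) {d' : GL chevD4.Idx K} (hd' : d' ∈ V (Xp φ) 1 5)
    (h : Commute (X 14 c₀) (eA φ δ * d')) : δ = 0 := by
  have hS : lowS ∈ [lowS, lowZ] := by simp
  have := normal_of_list (K := K) hS
  let π := pi (K := K) lowS
  have h14 : (14 : ℕ) ∈ allPos := by decide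
  let a : ↥(gen chevD4 K allPos) := el 14 h14 c₀
  have hd : d' ∈ gen chevD4 K allPos := V_le_all φ (by norm_num) hd'
  have hcent : Commute (π a) (π ⟨d', hd⟩) := by
    suffices key : V (Xp φ) 1 5 ≤ ((Subgroup.centralizer {π a}).comap π).map
        (gen chevD4 K allPos).subtype by
      obtain ⟨y, hy, e⟩ := key hd'
      obtain rfl : y = ⟨d', hd⟩ := Subtype.ext e
      exact (Subgroup.mem_centralizer_singleton_iff.1 hy).symm
    refine iSup₂_le fun c hc y hy => ?_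
    obtain ⟨t, rfl⟩ := D4Stem.exists_pr φ ⟨c, by omega⟩ hy.1
    refine Subgroup.list_prod_mem _ fun z hz => ?_
    obtain ⟨r, hr, rfl⟩ := List.mem_map.1 hz
    have hr' : r ∈ allPos ∧ r ∈ [17, 20, 21, 22, 23, 19, 16, 15] :=
      (by decide +kernel : ∀ c : Fin 6, 1 ≤ c.val → c.val < 5 → ∀ r ∈ rootsAt c.val,
        r ∈ allPos ∧ r ∈ [17, 20, 21, 22, 23, 19, 16, 15]) ⟨c, by omega⟩ hc.1 hc.2 r hr
    refine ⟨el r hr'.1 (t r), ?_, rfl⟩
    obtain ⟨h1, h2, h3, h4, h5⟩ := lowS_check.1 (14, r) (by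
      have := hr'.2
      simp only [List.mem_cons, List.not_mem_nil, or_false] at this ⊢
      rcases this with rfl | rfl | rfl | rfl | rfl | rfl | rfl | rfl <;> simp)
    exact Subgroup.mem_centralizer_singleton_iff.2 (pi_commute h14 hr'.1 h3 h4 h5 _ _).symm
  have h0 : eA φ δ ∈ gen chevD4 K allPos :=
    Subgroup.mul_mem _ (xg_mem_gen (by decide) _) (Subgroup.mul_mem _ (xg_mem_gen (by decide) _)
      (xg_mem_gen (by decide) _))
  have hA : Commute (π a) (π ⟨eA φ δ, h0⟩) := by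
    have h' : Commute (π a) (π (⟨eA φ δ, h0⟩ * ⟨d', hd⟩)) :=
      (show Commute a (⟨eA φ δ, h0⟩ * ⟨d', hd⟩) from Subtype.ext h.eq).map π
    rw [map_mul] at h'
    have := h'.mul_right hcent.inv_right
    rwa [mul_inv_cancel_right] at this
  obtain ⟨c1, c2, c3, -⟩ := coord_facts
  have hne : ∀ r ∈ [18, 13, 12], r ≠ 14 ∧ r ≠ chevD4.neg 14 := by decide +kernel
  have p1 := pi_comm (S := lowS) h14 (s := 18) (by decide) (k := 19) (by decide) c1 (hne 18 (by simp)).1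
    (hne 18 (by simp)).2 c₀ δ
  have p2 := pi_comm (S := lowS) h14 (s := 13) (by decide) (k := 16) (by decide) c2 (hne 13 (by simp)).1
    (hne 13 (by simp)).2 c₀ (φ δ)
  have p3 := pi_comm (S := lowS) h14 (s := 12) (by decide) (k := 15) (by decide) c3 (hne 12 (by simp)).1
    (hne 12 (by simp)).2 c₀ (φ (φ δ))
  have hcom : ∀ p ∈ [(18, 16), (18, 15), (13, 15)], ∀ (hr : p.1 ∈ allPos) (hs : p.2 ∈ allPos) (t u : K),
      Commute (π (el p.1 hr t)) (π (el p.2 hs u)) := fun p hp hr hs t u => by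
    obtain ⟨-, -, h3, h4, h5⟩ := lowS_check.1 p (by
      simp only [List.mem_cons, List.not_mem_nil, or_false] at hp ⊢
      rcases hp with rfl | rfl | rfl <;> simp)
    exact pi_commute hr hs h3 h4 h5 t u
  have e : ⁅π a, π ⟨eA φ δ, h0⟩⁆ = π (el 19 (by decide) ((1 : ℤ) * (c₀ * δ)) *
      (el 16 (by decide) ((-1 : ℤ) * (c₀ * φ δ)) * el 15 (by decide) ((-1 : ℤ) * (c₀ * φ (φ δ))))) := by
    rw [show (⟨eA φ δ, h0⟩ : ↥(gen chevD4 K allPos)) = el 18 (by decide) δ *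
      (el 13 (by decide) (φ δ) * el 12 (by decide) (φ (φ δ))) from rfl, map_mul, map_mul, map_mul, map_mul,
      ← p1, ← p2, ← p3]
    simp only [commutatorElement_def]
    set A := π a
    set b := π (el 18 (by decide) δ)
    set c := π (el 13 (by decide) (φ δ))
    set d := π (el 12 (by decide) (φ (φ δ)))
    have k1 : Commute b (A * c * A⁻¹ * c⁻¹) := by
      have := hcom (18, 16) (by simp) (by decide) (by decide) δ ((-1 : ℤ) * (c₀ * φ δ))
      rwa [← p2, commutatorElement_def] at this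
    have k2 : Commute b (A * d * A⁻¹ * d⁻¹) := by
      have := hcom (18, 15) (by simp) (by decide) (by decide) δ ((-1 : ℤ) * (c₀ * φ (φ δ)))
      rwa [← p3, commutatorElement_def] at this
    have k3 : Commute c (A * d * A⁻¹ * d⁻¹) := by
      have := hcom (13, 15) (by simp) (by decide) (by decide) (φ δ) ((-1 : ℤ) * (c₀ * φ (φ δ)))
      rwa [← p3, commutatorElement_def] at this
    calc A * (b * (c * d)) * A⁻¹ * (b * (c * d))⁻¹
        = (A * b * A⁻¹ * b⁻¹) * (b * ((A * c * A⁻¹ * c⁻¹) * (c * (A * d * A⁻¹ * d⁻¹) * c⁻¹)) * b⁻¹) := by group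
      _ = _ := by rw [k3.eq, mul_inv_cancel_right, (k1.mul_right k2).eq, mul_inv_cancel_right]
  rw [commutatorElement_eq_one_iff_commute.2 hA, eq_comm, pi_eq_one] at e
  have := (zero_of_low (a := 19) (b := 16) (c := 15) (S := lowS) (by simp) e).1
  simpa [hc₀] using this

/-- Commuting with the short simple root element modulo the long classes. -/
theorem second_zero {e₁ e₂ e₃ x : K} {d₀ : GL chevD4.Idx K} (hd₀ : d₀ ∈ V (Xp φ) 1 4)
    (h : Commute (eA φ 1) (d₀ * eSign φ 19 16 15 e₁ e₂ e₃ x)) :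
    e₁ * x = e₂ * φ x ∧ e₁ * x = e₃ * φ (φ x) ∧ e₃ * φ (φ x) + e₂ * φ x = 0 := by
  have hS : lowZ ∈ [lowS, lowZ] := by simp
  have := normal_of_list (K := K) hS
  let π := pi (K := K) lowZ
  have h1 : eA φ 1 ∈ gen chevD4 K allPos :=
    Subgroup.mul_mem _ (xg_mem_gen (by decide) _) (Subgroup.mul_mem _ (xg_mem_gen (by decide) _)
      (xg_mem_gen (by decide) _))
  have h2 : eSign φ 19 16 15 e₁ e₂ e₃ x ∈ gen chevD4 K allPos :=
    Subgroup.mul_mem _ (xg_mem_gen (by decide) _) (Subgroup.mul_mem _ (xg_mem_gen (by decide) _)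
      (xg_mem_gen (by decide) _))
  have h0 : d₀ ∈ gen chevD4 K allPos := V_le_all φ (by norm_num) hd₀
  have hcent : Commute (π ⟨_, h1⟩) (π ⟨d₀, h0⟩) := by
    suffices key : V (Xp φ) 1 4 ≤ ((Subgroup.centralizer {π ⟨_, h1⟩}).comap π).map
        (gen chevD4 K allPos).subtype by
      obtain ⟨y, hy, e⟩ := key hd₀
      obtain rfl : y = ⟨d₀, h0⟩ := Subtype.ext e
      exact (Subgroup.mem_centralizer_singleton_iff.1 hy).symm
    refine iSup₂_le fun c hc y hy => ?_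
    obtain ⟨t, rfl⟩ := D4Stem.exists_pr φ ⟨c, by omega⟩ hy.1
    refine Subgroup.list_prod_mem _ fun z hz => ?_
    obtain ⟨r, hr, rfl⟩ := List.mem_map.1 hz
    obtain ⟨hra, hk1, hk2, hk3⟩ := (by decide +kernel : ∀ c : Fin 6, 1 ≤ c.val → c.val < 4 → ∀ r ∈ rootsAt c.val,
        r ∈ allPos ∧ ∀ s : Fin 3, [18, 13, 12].getD s.val 0 ≠ r ∧ r ≠ chevD4.neg ([18, 13, 12].getD s.val 0) ∧
          ∀ x ∈ chevD4.commTerms ([18, 13, 12].getD s.val 0) r, x.1 ∈ lowZ) ⟨c, by omega⟩ hc.1 hc.2 r hr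
      |> fun ⟨a, b⟩ => (⟨a, b 0, b 1, b 2⟩ : _ ∧ _ ∧ _ ∧ _)
    refine ⟨el r hra (t r), Subgroup.mem_centralizer_singleton_iff.2 (Commute.symm ?_), rfl⟩
    rw [show (⟨eA φ 1, h1⟩ : ↥(gen chevD4 K allPos)) = el 18 (by decide) 1 *
      (el 13 (by decide) (φ 1) * el 12 (by decide) (φ (φ 1))) from rfl, map_mul, map_mul]
    exact (pi_commute (r := 18) (by decide) hra (Ne.symm hk1.1) hk1.2.1 hk1.2.2 _ _).mul_left
      ((pi_commute (r := 13) (by decide) hra (Ne.symm hk2.1) hk2.2.1 hk2.2.2 _ _).mul_left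
        (pi_commute (r := 12) (by decide) hra (Ne.symm hk3.1) hk3.2.1 hk3.2.2 _ _))
  have hc : Commute (π ⟨_, h1⟩) (π ⟨_, h2⟩) := by
    have h' : Commute (π ⟨_, h1⟩) (π (⟨d₀, h0⟩ * ⟨_, h2⟩)) :=
      (show Commute (⟨_, h1⟩ : ↥(gen chevD4 K allPos)) (⟨d₀, h0⟩ * ⟨_, h2⟩) from Subtype.ext h.eq).map π
    rw [map_mul] at h'
    have := hcent.inv_right.mul_right h'
    rwa [inv_mul_cancel_left] at this
  obtain ⟨-, -, -, c16, c15, c19, c17, c20, c27⟩ := coord_facts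
  obtain ⟨-, hz, hcen⟩ := lowS_check
  have hne : ∀ r ∈ [18, 13, 12], ∀ s ∈ [19, 16, 15], s ≠ r ∧ s ≠ chevD4.neg r := by decide +kernel
  have q1 := pi_comm (S := lowZ) (r := 18) (by decide) (s := 16) (by decide) (k := 21) (by decide) c16
    (hne 18 (by simp) 16 (by simp)).1 (hne 18 (by simp) 16 (by simp)).2 (1 : K) (e₂ * φ x)
  have q2 := pi_comm (S := lowZ) (r := 18) (by decide) (s := 15) (by decide) (k := 20) (by decide) c15
    (hne 18 (by simp) 15 (by simp)).1 (hne 18 (by simp) 15 (by simp)).2 (1 : K) (e₃ * φ (φ x))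
  have q3 := pi_comm (S := lowZ) (r := 13) (by decide) (s := 19) (by decide) (k := 21) (by decide) c19
    (hne 13 (by simp) 19 (by simp)).1 (hne 13 (by simp) 19 (by simp)).2 (φ (1 : K)) (e₁ * x)
  have q4 := pi_comm (S := lowZ) (r := 13) (by decide) (s := 15) (by decide) (k := 17) (by decide) c17
    (hne 13 (by simp) 15 (by simp)).1 (hne 13 (by simp) 15 (by simp)).2 (φ (1 : K)) (e₃ * φ (φ x))
  have q5 := pi_comm (S := lowZ) (r := 12) (by decide) (s := 19) (by decide) (k := 20) (by decide) c20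
    (hne 12 (by simp) 19 (by simp)).1 (hne 12 (by simp) 19 (by simp)).2 (φ (φ (1 : K))) (e₁ * x)
  have q6 := pi_comm (S := lowZ) (r := 12) (by decide) (s := 16) (by decide) (k := 17) (by decide) c27
    (hne 12 (by simp) 16 (by simp)).1 (hne 12 (by simp) 16 (by simp)).2 (φ (φ (1 : K))) (e₂ * φ x)
  have sum := comm_bilinear
    (b := π (el 18 (by decide) 1)) (c := π (el 13 (by decide) (φ 1))) (d := π (el 12 (by decide) (φ (φ 1))))
    (x := π (el 19 (by decide) (e₁ * x))) (y := π (el 16 (by decide) (e₂ * φ x)))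
    (z := π (el 15 (by decide) (e₃ * φ (φ x))))
    (pi_commute _ _ (hz (18, 19) (by simp)).2.2.1 (hz (18, 19) (by simp)).2.2.2.1
      (hz (18, 19) (by simp)).2.2.2.2 _ _) q1 q2 q3
    (pi_commute _ _ (hz (13, 16) (by simp)).2.2.1 (hz (13, 16) (by simp)).2.2.2.1
      (hz (13, 16) (by simp)).2.2.2.2 _ _) q4 q5 q6
    (pi_commute _ _ (hz (12, 15) (by simp)).2.2.1 (hz (12, 15) (by simp)).2.2.2.1
      (hz (12, 15) (by simp)).2.2.2.2 _ _) (by
      have key : ∀ r ∈ [17, 20, 21], ∀ (hr : r ∈ allPos) (t : K), ∀ g,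
          g = π (el 18 (by decide) 1) ∨ g = π (el 13 (by decide) (φ 1)) ∨ g = π (el 12 (by decide) (φ (φ 1))) ∨
          g = π (el 19 (by decide) (e₁ * x)) ∨ g = π (el 16 (by decide) (e₂ * φ x)) ∨
          g = π (el 15 (by decide) (e₃ * φ (φ x))) → Commute (π (el r hr t)) g := by
        intro r hr hr' t g hg
        rcases hg with rfl | rfl | rfl | rfl | rfl | rfl <;>
          exact pi_commute _ _ (hcen r hr _ (by simp)).2.2.1 (hcen r hr _ (by simp)).2.2.2.1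
            (hcen r hr _ (by simp)).2.2.2.2 _ _
      rintro p (rfl | rfl | rfl | rfl | rfl | rfl) <;> exact key _ (by simp) _ _)
  rw [← map_mul, ← map_mul, ← map_mul, ← map_mul] at sum
  have hlhs : ⁅π ⟨_, h1⟩, π ⟨_, h2⟩⁆ = 1 := commutatorElement_eq_one_iff_commute.2 hc
  have hE : (el 18 (by decide) (1 : K) * (el 13 (by decide) (φ 1) * el 12 (by decide) (φ (φ 1))) :
      ↥(gen chevD4 K allPos)) = ⟨_, h1⟩ := rfl
  have hE' : (el 19 (by decide) (e₁ * x) * (el 16 (by decide) (e₂ * φ x) * el 15 (by decide) (e₃ * φ (φ x))) :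
      ↥(gen chevD4 K allPos)) = ⟨_, h2⟩ := rfl
  rw [hE, hE', hlhs, ← map_mul, ← map_mul, ← map_mul, ← map_mul, ← map_mul, eq_comm, pi_eq_one] at sum
  simp only [map_one, one_mul, Int.cast_one, Int.cast_neg, Subgroup.coe_mul, el] at sum
  have com : ∀ r ∈ [17, 20, 21], ∀ s ∈ [17, 20, 21], ∀ t u : K, Commute (X r t) (X s u) := fun r hr s hs t u =>
    D4Stem.xg_commute (by simp at hr; omega) (by simp at hs; omega)
      ((by decide +kernel : ∀ r ∈ [17, 20, 21], ∀ s ∈ [17, 20, 21],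
        chevD4.commTerms r s = [] ∧ s ≠ chevD4.neg r) r hr s hs).1
      ((by decide +kernel : ∀ r ∈ [17, 20, 21], ∀ s ∈ [17, 20, 21],
        chevD4.commTerms r s = [] ∧ s ≠ chevD4.neg r) r hr s hs).2 t u
  have eq : X 20 (e₁ * x) * X 17 (e₂ * φ x) * (X 21 (e₁ * x) * X 17 (e₃ * φ (φ x))) *
      (X 21 (-1 * (e₂ * φ x)) * X 20 (-1 * (e₃ * φ (φ x)))) =
      X 17 (e₂ * φ x + e₃ * φ (φ x)) * (X 20 (e₁ * x + -1 * (e₃ * φ (φ x))) *
        X 21 (e₁ * x + -1 * (e₂ * φ x))) := by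
    simp only [← (D4.good : Good chevD4).xg_add]
    have a1 := com 20 (by simp) 17 (by simp) (e₁ * x) (e₂ * φ x)
    have a2 := com 21 (by simp) 17 (by simp) (e₁ * x) (e₃ * φ (φ x))
    have a3 := com 20 (by simp) 17 (by simp) (e₁ * x) (e₃ * φ (φ x))
    have a4 := com 21 (by simp) 20 (by simp) (-1 * (e₂ * φ x)) (-1 * (e₃ * φ (φ x)))
    have a5 := com 21 (by simp) 20 (by simp) (e₁ * x) (-1 * (e₃ * φ (φ x)))
    rw [a1.eq, a2.eq, a4.eq]
    simp only [mul_assoc]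
    rw [← mul_assoc (X 20 (e₁ * x)) (X 17 (e₃ * φ (φ x))), a3.eq]
    simp only [mul_assoc]
    rw [← mul_assoc (X 21 (e₁ * x)) (X 20 (-1 * (e₃ * φ (φ x)))), a5.eq]
    simp only [mul_assoc]
  rw [eq] at sum
  obtain ⟨z1, z2, z3⟩ := zero_of_low (a := 17) (b := 20) (c := 21) (S := lowZ) (by simp) sum
  exact ⟨by linear_combination z3, by linear_combination z2, by linear_combination z1⟩

end Cfsg.Agent.D4Sub
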