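/-
³D₄(q): a subgroup with the fixed elements and one more element of the short simple class is everything.
-/
import Cfsg.Agent.Lib.Chev.D4Subfield.Basic
import Cfsg.Agent.Lib.Chev.D4Stem.Comm
import Cfsg.Agent.Lib.Chev.SL2

set_option autoImplicit false

namespace Cfsg.Agent.D4Sub

open Cfsg.Lie Cfsg.Agent.Chev
open Cfsg.Agent.D4Invol (hn hk eA eA_mem exists_eA xB_mem Jl_facts)
open Cfsg.Agent.Chev.BNSetup (tw3D4 orbD4 orbD4_ok facts_chevD4 negTri_chevD4 graphD4_cols xg_eq_xe)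
open Cfsg.Agent.D4Stem (Hyp pr pr_mul rootsAt rootsAt_check cD cD_mem_H conj_pr chars_short)
open scoped MatrixGroups

variable {K : Type*} [Field K]

/-- The root element. -/
local notation "X" => xg chevD4 K

variable (φ : K ≃+* K)

/-- The element of the class opposite to the short simple one. -/
noncomputable def eN (t : K) : GL chevD4.Idx K :=
  X (chevD4.neg 18) t * (X (chevD4.neg 13) (φ t) * X (chevD4.neg 12) (φ (φ t)))

theorem eA_add (s t : K) : eA φ s * eA φ t = eA φ (s + t) := by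
  rw [eA_eq_pr, eA_eq_pr, eA_eq_pr,
    pr_mul (rootsAt 0) (fun r hr => ((rootsAt_check 0).2.1 r hr).1)
      (fun r hr s hs => ⟨((rootsAt_check 0).2.2.2 r hr s hs).1, ((rootsAt_check 0).2.2.2 r hr s hs).2.2⟩)]
  refine D4Stem.pr_congr fun r _ => ?_
  simp only [Pi.add_apply]
  split_ifs <;> simp

theorem commute_range {r s : ℕ} (h : r ∈ [18, 13, 12]) (h' : s ∈ [18, 13, 12]) (hne : r ≠ s)
    {f g : SL(2, K) →* GL chevD4.Idx K} (f1 : ∀ t, f (upperSL t) = X r t)
    (f2 : ∀ t, f (lowerSL t) = X (chevD4.neg r) t) (g1 : ∀ t, g (upperSL t) = X s t)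
    (g2 : ∀ t, g (lowerSL t) = X (chevD4.neg s) t) (a b : SL(2, K)) : Commute (f a) (g b) := by
  have hcheck : ∀ r ∈ [18, 13, 12], ∀ s ∈ [18, 13, 12], r ≠ s → ∀ r' ∈ [r, chevD4.neg r], ∀ s' ∈ [s, chevD4.neg s],
      r' < 24 ∧ s' < 24 ∧ chevD4.commTerms r' s' = [] ∧ s' ≠ chevD4.neg r' := by decide +kernel
  have hgen : ∀ r' ∈ [r, chevD4.neg r], ∀ s' ∈ [s, chevD4.neg s], ∀ t u, Commute (X r' t) (X s' u) := by
    intro r' hr' s' hs' t u
    obtain ⟨h1, h2, h3, h4⟩ := hcheck r h s h' hne r' hr' s' hs'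
    exact D4Stem.xg_commute h1 h2 h3 h4 t u
  have hr : f a ∈ chevD4.rootSubgroup K r ⊔ chevD4.rootSubgroup K (chevD4.neg r) := by
    rw [← (D4.good : Good chevD4).range_sl2_hom f1 f2]; exact ⟨a, rfl⟩
  have hs : g b ∈ chevD4.rootSubgroup K s ⊔ chevD4.rootSubgroup K (chevD4.neg s) := by
    rw [← (D4.good : Good chevD4).range_sl2_hom g1 g2]; exact ⟨b, rfl⟩
  have hcs : ∀ r' ∈ [r, chevD4.neg r], chevD4.rootSubgroup K r' ≤ Subgroup.centralizer
      (↑(chevD4.rootSubgroup K s ⊔ chevD4.rootSubgroup K (chevD4.neg s)) : Set (GL chevD4.Idx K)) := by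
    intro r' hr' x hx
    obtain ⟨t, rfl⟩ := (D4.good : Good chevD4).mem_rootSubgroup_iff.1 hx
    rw [Subgroup.mem_centralizer_iff]
    intro y hy
    have hy' : y ∈ Subgroup.centralizer {X r' t} := by
      refine (show chevD4.rootSubgroup K s ⊔ chevD4.rootSubgroup K (chevD4.neg s) ≤ _ from ?_) hy
      refine sup_le ?_ ?_ <;> intro z hz <;>
        obtain ⟨u, rfl⟩ := (D4.good : Good chevD4).mem_rootSubgroup_iff.1 hz <;>
        exact Subgroup.mem_centralizer_singleton_iff.2 (hgen r' hr' _ (by simp) t u).eq.symm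
    exact Subgroup.mem_centralizer_singleton_iff.1 hy'
  have := Subgroup.mem_centralizer_iff.1 ((sup_le (hcs r (by simp)) (hcs _ (by simp))) hr) (g b) hs
  exact this.symm

/-- The homomorphism onto the group of the short simple class and its opposite. -/
theorem exists_hom : ∃ Φ : SL(2, K) →* GL chevD4.Idx K,
    (∀ t, Φ (upperSL t) = eA φ t) ∧ ∀ t, Φ (lowerSL t) = eN φ t := by
  have hlt : ∀ r ∈ [18, 13, 12], r < chevD4.nroots := by rw [hn]; decide
  obtain ⟨f, f1, f2⟩ := (D4.good : Good chevD4).exists_sl2_hom (F := K) (hlt 18 (by simp))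
  obtain ⟨g, g1, g2⟩ := (D4.good : Good chevD4).exists_sl2_hom (F := K) (hlt 13 (by simp))
  obtain ⟨k, k1, k2⟩ := (D4.good : Good chevD4).exists_sl2_hom (F := K) (hlt 12 (by simp))
  let m : SL(2, K) →* SL(2, K) := Matrix.SpecialLinearGroup.map (φ : K →+* K)
  have hu : ∀ t, m (upperSL t) = upperSL (φ t) := fun t => Subtype.ext <| by
    ext i j; fin_cases i <;> fin_cases j <;> simp [m, coe_upperSL]
  have hl : ∀ t, m (lowerSL t) = lowerSL (φ t) := fun t => Subtype.ext <| by
    ext i j; fin_cases i <;> fin_cases j <;> simp [m, coe_lowerSL]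
  refine ⟨MonoidHom.mk' (fun a => f a * (g (m a) * k (m (m a)))) (fun a b => ?_), fun t => ?_, fun t => ?_⟩
  · have c1 := commute_range (r := 18) (s := 13) (by simp) (by simp) (by decide) f1 f2 g1 g2 b (m a)
    have c2 := commute_range (r := 18) (s := 12) (by simp) (by simp) (by decide) f1 f2 k1 k2 b (m (m a))
    have c3 := commute_range (r := 13) (s := 12) (by simp) (by simp) (by decide) g1 g2 k1 k2 (m b) (m (m a))
    simp only [map_mul]
    calc f a * f b * (g (m a) * g (m b) * (k (m (m a)) * k (m (m b))))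
        = f a * f b * (g (m a) * (g (m b) * k (m (m a))) * k (m (m b))) := by group
      _ = f a * f b * ((g (m a) * k (m (m a))) * (g (m b) * k (m (m b)))) := by rw [c3.eq]; group
      _ = f a * (f b * (g (m a) * k (m (m a)))) * (g (m b) * k (m (m b))) := by group
      _ = _ := by rw [(c1.mul_right c2).eq]; group
  · simp only [MonoidHom.mk'_apply, hu, f1, g1, k1, eA]
  · simp only [MonoidHom.mk'_apply, hl, f2, g2, k2, eN]

theorem upper_conj {A ν : K} {g : SL(2, K)} {e : K}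
    (hg : (g : Matrix (Fin 2) (Fin 2) K) = !![A, e; 0, A⁻¹]) (hA : A ≠ 0) (hν : A ^ 2 = ν) (s : K) :
    g * upperSL s * g⁻¹ = upperSL (ν * s) := by
  rw [mul_inv_eq_iff_eq_mul]
  apply Subtype.ext
  simp only [Matrix.SpecialLinearGroup.coe_mul, hg, coe_upperSL]
  ext i j
  fin_cases i <;> fin_cases j <;> simp [Matrix.mul_apply, Fin.sum_univ_two]
  rw [← hν]
  field_simp
  ring

variable {φ}

theorem eN_mem_Gt (hcube : ∀ x, φ (φ (φ x)) = x) (t : K) : eN φ t ∈ (tw3D4 φ).Gt := by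
  have h := (BNSetup.pv_mem_Gt D4.good orbD4_ok φ facts_chevD4 negTri_chevD4 graphD4_cols 1
    (a := fun k => if k = 0 then t else if k = 2 then φ t else φ (φ t)) (fun k hk => by
      rw [Jl_facts.2.1] at hk
      simp only [List.mem_cons, List.not_mem_nil, or_false] at hk
      rcases hk with rfl | rfl | rfl
      · rfl
      · rfl
      · exact (hcube t).symm)).2
  simp [BNSetup.pv, Jl_facts.2.1, eN, ← xg_eq_xe D4.good, Jl_facts.2.2.1, Jl_facts.2.2.2.2.1,
    Jl_facts.2.2.2.2.2.1] at h ⊢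
  exact h

theorem eN_fix {t : K} (ht : φ t = t) : eN φ t ∈ fixT φ := by
  simp [mem_fixT, eN, map_mul, ht]

theorem fixed_inj {ν : K} (hcube : ∀ x, φ (φ (φ x)) = x) (hν : φ ν ≠ ν) {a b c : K} (ha : φ a = a)
    (hb : φ b = b) (hc : φ c = c) (e : a + b * ν + c * ν ^ 2 = 0) : a = 0 ∧ b = 0 ∧ c = 0 := by
  have e1 : a + b * φ ν + c * φ ν ^ 2 = 0 := by simpa [map_add, ha, hb, hc] using congrArg φ e
  have e2 : a + b * φ (φ ν) + c * φ (φ ν) ^ 2 = 0 := by simpa [map_add, ha, hb, hc] using congrArg φ e1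
  have h12 : φ (φ ν) ≠ φ ν := fun k => hν (φ.injective k)
  have h20 : φ (φ ν) ≠ ν := fun k => hν (φ.injective (φ.injective (by rw [hcube, k])))
  have f1 : b + c * (ν + φ ν) = 0 :=
    (mul_eq_zero.1 (show (φ ν - ν) * (b + c * (ν + φ ν)) = 0 by linear_combination e1 - e)).resolve_left
      (sub_ne_zero.2 hν)
  have f2 : b + c * (φ ν + φ (φ ν)) = 0 :=
    (mul_eq_zero.1 (show (φ (φ ν) - φ ν) * (b + c * (φ ν + φ (φ ν))) = 0 by
      linear_combination e2 - e1)).resolve_left (sub_ne_zero.2 h12)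
  have f3 : c = 0 := (mul_eq_zero.1 (show (φ (φ ν) - ν) * c = 0 by linear_combination f2 - f1)).resolve_left
    (sub_ne_zero.2 h20)
  subst f3
  have f4 : b = 0 := by linear_combination f1
  subst f4
  exact ⟨by linear_combination e, rfl, rfl⟩

variable [Fintype K] {q : ℕ} (h : Hyp φ q)
include h

/-- A subgroup with the fixed elements and a moved short root element is everything. -/
theorem eq_Gt_of_eA {H : Subgroup (GL chevD4.Idx K)} (hM : (tw3D4 φ).Gt ⊓ fixT φ ≤ H)
    (hH : H ≤ (tw3D4 φ).Gt) {t : K} (ht : φ t ≠ t) (hA : eA φ t ∈ H) : H = (tw3D4 φ).Gt := by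
  classical
  obtain ⟨Φ, hu, hl⟩ := exists_hom φ
  have h0 : eA φ (0 : K) = 1 := by simp [eA, (D4.good : Good chevD4).xg_zero]
  let S : AddSubgroup K :=
    { carrier := {s | eA φ s ∈ H}
      zero_mem' := by
        show eA φ 0 ∈ H
        rw [h0]; exact H.one_mem
      add_mem' := fun {a b} ha hb => by
        show eA φ (a + b) ∈ H
        rw [← eA_add]; exact H.mul_mem ha hb
      neg_mem' := fun {a} ha => by
        show eA φ (-a) ∈ H
        rw [show eA φ (-a) = (eA φ a)⁻¹ from eq_inv_of_mul_eq_one_left (by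
          rw [eA_add, neg_add_cancel, h0])]
        exact H.inv_mem ha }
  have hmem : ∀ s, s ∈ S ↔ eA φ s ∈ H := fun s => Iff.rfl
  have hone : (1 : K) ∈ S := hM ⟨eA_mem' φ h.cube 1, (eA_fix_iff φ).2 (map_one φ)⟩
  have hflip : Φ flipSL ∈ H := by
    have e : (flipSL : SL(2, K)) = upperSL 1 * lowerSL (-1) * upperSL 1 := by
      apply Subtype.ext
      simp only [Matrix.SpecialLinearGroup.coe_mul]
      ext i j; fin_cases i <;> fin_cases j <;>
        simp [coe_lowerSL, coe_upperSL, coe_flipSL, Matrix.mul_apply, Fin.sum_univ_two]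
    rw [e, map_mul, map_mul, hu, hl]
    exact H.mul_mem (H.mul_mem hone (hM ⟨eN_mem_Gt h.cube _, eN_fix (by simp)⟩)) hone
  have hneg : ∀ s ∈ S, eN φ s ∈ H := by
    intro s hs
    rw [← hl, lowerSL_eq, map_mul, map_mul, map_inv, hu]
    exact H.mul_mem (H.mul_mem hflip (S.neg_mem hs)) (H.inv_mem hflip)
  have hsmul : ∀ u, φ u = u → ∀ s ∈ S, u * s ∈ S := by
    intro u hu' s hs
    rcases eq_or_ne u 0 with rfl | hu0
    · rw [zero_mul]; exact S.zero_mem
    let s' : Kˣ := (Units.mk0 u hu0)⁻¹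
    have hs' : φ (s' : K) = s' := by simp [s', map_inv₀, hu']
    have hc := cD_mem_H φ h.cube (a := 1) hs'
    have hg : BNSetup.torusHom K chevD4 (cD φ 1 s') ∈ H := hM ⟨hc.2, by
      show theta φ (BNSetup.torusHom K chevD4 (cD φ 1 s')) = BNSetup.torusHom K chevD4 (cD φ 1 s')
      rw [theta_torusHom]
      congr 1
      funext i
      ext
      change φ _ = _
      revert i
      show ∀ i : Fin 4, _
      intro i
      fin_cases i <;> simp [cD, hs']⟩
    have e : BNSetup.torusHom K chevD4 (cD φ 1 s') * eA φ s * (BNSetup.torusHom K chevD4 (cD φ 1 s'))⁻¹ =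
        eA φ (u * s) := by
      rw [eA_eq_pr, eA_eq_pr, conj_pr _ (L := rootsAt 0) (fun r hr => ((rootsAt_check 0).2.1 r hr).1)]
      refine D4Stem.pr_congr fun r hr => ?_
      obtain ⟨⟨c1, c2, c3⟩, -⟩ := chars_short φ 1 s'
      simp only [rootsAt, List.getD_cons_zero, List.mem_cons, List.not_mem_nil, or_false] at hr
      rcases hr with rfl | rfl | rfl <;> simp [c1, c2, c3, s', hu']
    rw [hmem, ← e]
    exact H.mul_mem (H.mul_mem hg hs) (H.inv_mem hg)
  have hν : ∀ b ∈ S, ∀ d ∈ S, b ≠ 0 → d ≠ 0 → -(b⁻¹ + d⁻¹) ∈ S → ∀ s ∈ S, (d / b) ^ 2 * s ∈ S := by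
    intro b hb d hd hb0 hd0 hc s hs
    set c := -(b⁻¹ + d⁻¹) with hcdef
    set g : SL(2, K) := lowerSL b * upperSL c * lowerSL d
    have hg : (g : Matrix (Fin 2) (Fin 2) K) = !![-(d / b), c; 0, (-(d / b))⁻¹] := by
      simp only [g, Matrix.SpecialLinearGroup.coe_mul, coe_lowerSL, coe_upperSL]
      ext i j
      fin_cases i <;> fin_cases j <;> simp [Matrix.mul_apply, Fin.sum_univ_two, hcdef] <;> field_simp <;> ring
    have hgH : Φ g ∈ H := by
      simp only [g, map_mul, hu, hl]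
      exact H.mul_mem (H.mul_mem (hneg b hb) hc) (hneg d hd)
    rw [hmem, ← hu, ← upper_conj hg (neg_ne_zero.2 (div_ne_zero hd0 hb0)) (by ring) s, map_mul, map_mul, map_inv,
      hu]
    exact H.mul_mem (H.mul_mem hgH hs) (H.inv_mem hgH)
  -- the additive group is everything
  have htS : t ∈ S := hA
  have hSall : ∀ x, x ∈ S := by
    by_contra hne
    push Not at hne
    obtain ⟨v, hv⟩ := hne
    -- the cosets of `S` are the multiples of `v`
    have hcos : ∀ z : K, ∃ u, φ u = u ∧ z - u * v ∈ S := by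
      have hinj : Function.Injective (fun u : {x : K // φ x = x} => ((u.1 * v : K) : K ⧸ S)) := by
        intro a b e
        by_contra hab
        have h0 : b.1 - a.1 ≠ 0 := sub_ne_zero.2 fun k => hab (Subtype.ext k.symm)
        have h1 := hsmul (b.1 - a.1)⁻¹ (by rw [map_inv₀, map_sub, a.2, b.2]) _ ((QuotientAddGroup.eq).1 e)
        rw [show -(a.1 * v) + b.1 * v = (b.1 - a.1) * v by ring, inv_mul_cancel_left₀ h0] at h1
        exact hv h1
      have hpair : Function.Injective (fun p : {x : K // φ x = x} × {x : K // φ x = x} =>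
          (⟨p.1.1 * 1 + p.2.1 * t, S.add_mem (hsmul _ p.1.2 _ hone) (hsmul _ p.2.2 _ htS)⟩ : S)) := by
        intro a b e
        have e' : a.1.1 * 1 + a.2.1 * t = b.1.1 * 1 + b.2.1 * t := congrArg Subtype.val e
        have h2 : a.2.1 = b.2.1 := by
          by_contra h2
          refine ht ?_
          have : t = (b.1.1 - a.1.1) / (a.2.1 - b.2.1) := by
            rw [eq_div_iff (sub_ne_zero.2 h2)]; linear_combination e'
          rw [this, map_div₀, map_sub, map_sub, a.1.2, a.2.2, b.1.2, b.2.2]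
        exact Prod.ext (Subtype.ext (by linear_combination e' - t * h2)) (Subtype.ext h2)
      have h1 := Nat.card_le_card_of_injective _ hpair
      rw [Nat.card_prod, h.fixed] at h1
      have h2 := S.card_mul_index
      rw [AddSubgroup.index, Nat.card_eq_fintype_card (α := K), h.card] at h2
      have h3 : Nat.card (K ⧸ S) ≤ q := by
        by_contra hlt
        push Not at hlt
        have := Nat.mul_le_mul h1 (show q + 1 ≤ Nat.card (K ⧸ S) from hlt)
        rw [h2] at this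
        have := h.two_le
        nlinarith
      have hb : Function.Bijective (fun u : {x : K // φ x = x} => ((u.1 * v : K) : K ⧸ S)) :=
        hinj.bijective_of_nat_card_le (by rw [h.fixed]; exact h3)
      intro z
      obtain ⟨u, hu'⟩ := hb.2 (z : K ⧸ S)
      refine ⟨u.1, u.2, ?_⟩
      have := (QuotientAddGroup.eq).1 hu'
      rwa [show -(u.1 * v) + z = z - u.1 * v by ring] at this
    have ht0 : t ≠ 0 := fun e => ht (by rw [e, map_zero])
    have ht1 : t + 1 ≠ 0 := fun e => ht (by rw [show t = -1 by linear_combination e]; simp)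
    obtain ⟨u₁, hu₁, z₁⟩ := hcos t⁻¹
    obtain ⟨u₂, hu₂, z₂⟩ := hcos (t + 1)⁻¹
    obtain ⟨b, hb, d, hd, hb0, hd0, hc, hmv⟩ : ∃ b ∈ S, ∃ d ∈ S, b ≠ 0 ∧ d ≠ 0 ∧
        -(b⁻¹ + d⁻¹) ∈ S ∧ φ (d / b) ≠ d / b := by
      rcases eq_or_ne u₁ 0 with h1 | h1
      · refine ⟨1, hone, t, htS, one_ne_zero, ht0, S.neg_mem (S.add_mem (by simpa using hone) ?_), by simpa using ht⟩
        simpa [h1] using z₁
      rcases eq_or_ne u₂ 0 with h2 | h2
      · refine ⟨1, hone, t + 1, S.add_mem htS hone, one_ne_zero, ht1,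
          S.neg_mem (S.add_mem (by simpa using hone) ?_), by simpa using ht⟩
        simpa [h2] using z₂
      set k := -(u₂ / u₁) with hk'
      have hk0 : k ≠ 0 := neg_ne_zero.2 (div_ne_zero h2 h1)
      have hφk : φ k = k := by rw [hk', map_neg, map_div₀, hu₁, hu₂]
      refine ⟨t, htS, k * (t + 1), hsmul k hφk _ (S.add_mem htS hone), ht0, mul_ne_zero hk0 ht1, S.neg_mem ?_,
        fun e => ht ?_⟩
      · have hz : t⁻¹ + (k * (t + 1))⁻¹ = (t⁻¹ - u₁ * v) + k⁻¹ * ((t + 1)⁻¹ - u₂ * v) := by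
          rw [hk']; field_simp; ring
        rw [hz]
        exact S.add_mem z₁ (hsmul _ (by rw [map_inv₀, hφk]) _ z₂)
      · rw [map_div₀, map_mul, hφk, map_add, map_one, div_eq_div_iff ((map_ne_zero φ).2 ht0) ht0] at e
        exact (mul_left_cancel₀ hk0 (by linear_combination e)).symm
    set ν := (d / b) ^ 2 with hνdef
    have hνmv : φ ν ≠ ν := by
      intro e
      rw [hνdef, map_pow] at e
      rcases sq_eq_sq_iff_eq_or_eq_neg.1 e with e | e
      · exact hmv e
      · have e3 := h.cube (d / b)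
        rw [e, map_neg, e, neg_neg, e] at e3
        exact hmv (e.trans e3)
    have hνS := hν b hb d hd hb0 hd0 hc
    have hinj : Function.Injective (fun p : {x : K // φ x = x} × {x : K // φ x = x} × {x : K // φ x = x} =>
        (⟨p.1.1 * 1 + p.2.1.1 * (ν * 1) + p.2.2.1 * (ν * (ν * 1)),
          S.add_mem (S.add_mem (hsmul _ p.1.2 _ hone) (hsmul _ p.2.1.2 _ (hνS _ hone)))
            (hsmul _ p.2.2.2 _ (hνS _ (hνS _ hone)))⟩ : S)) := by
      intro a c e
      have e' : a.1.1 * 1 + a.2.1.1 * (ν * 1) + a.2.2.1 * (ν * (ν * 1)) =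
          c.1.1 * 1 + c.2.1.1 * (ν * 1) + c.2.2.1 * (ν * (ν * 1)) := congrArg Subtype.val e
      obtain ⟨k1, k2, k3⟩ := fixed_inj h.cube hνmv (a := a.1.1 - c.1.1) (b := a.2.1.1 - c.2.1.1)
        (c := a.2.2.1 - c.2.2.1) (by rw [map_sub, a.1.2, c.1.2]) (by rw [map_sub, a.2.1.2, c.2.1.2])
        (by rw [map_sub, a.2.2.2, c.2.2.2]) (by linear_combination e')
      exact Prod.ext (Subtype.ext (sub_eq_zero.1 k1))
        (Prod.ext (Subtype.ext (sub_eq_zero.1 k2)) (Subtype.ext (sub_eq_zero.1 k3)))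
    have h1 := Nat.card_le_card_of_injective _ hinj
    rw [Nat.card_prod, Nat.card_prod, h.fixed] at h1
    refine hv ((show S = ⊤ from AddSubgroup.eq_top_of_le_card _ ?_) ▸ AddSubgroup.mem_top v)
    rw [Nat.card_eq_fintype_card (α := K), h.card]
    calc q ^ 3 = q * (q * q) := by ring
      _ ≤ _ := h1
  refine le_antisymm hH ?_
  refine BNSetup.Gt_le D4.good orbD4_ok φ facts_chevD4 negTri_chevD4 graphD4_cols fun j a ha => ?_
  fin_cases j
  · have h1 : φ (a 1) = a 1 := (ha 1 (by decide)).symm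
    have hp := BNSetup.pv_mem_Gt D4.good orbD4_ok φ facts_chevD4 negTri_chevD4 graphD4_cols 0 ha
    refine ⟨hM ⟨hp.1, ?_⟩, hM ⟨hp.2, ?_⟩⟩ <;>
      simp [mem_fixT, BNSetup.pv, Jl_facts.1, ← xg_eq_xe D4.good, h1]
  · have h2 : a 2 = φ (a 0) := ha 0 (by decide)
    have h3 : a 3 = φ (a 2) := ha 2 (by decide)
    have hp := hSall (a 0)
    have hm := hneg _ hp
    rw [hmem] at hp
    constructor
    · simpa [BNSetup.pv, Jl_facts.2.1, eA, ← xg_eq_xe D4.good, Jl_facts.2.2.1, Jl_facts.2.2.2.2.1,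
        Jl_facts.2.2.2.2.2.1, h2, h3] using hp
    · simpa [BNSetup.pv, Jl_facts.2.1, eN, ← xg_eq_xe D4.good, Jl_facts.2.2.1, Jl_facts.2.2.2.2.1,
        Jl_facts.2.2.2.2.2.1, h2, h3] using hm

end Cfsg.Agent.D4Sub
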