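/-
³D₄(q): a proper subgroup containing the fixed elements has no further elements in the unipotent subgroup.
-/
import Cfsg.Agent.Lib.Chev.D4Subfield.Coord
import Cfsg.Agent.Lib.Chev.D4Subfield.SLStep

set_option autoImplicit false

namespace Cfsg.Agent.D4Sub

open Cfsg.Lie Cfsg.Agent.Chev
open Cfsg.Agent.RootBN (Data)
open Cfsg.Agent.D4Invol (hn hk hT hax eA eA_mem exists_eA exists_xB)
open Cfsg.Agent.Chev.BNSetup (tw3D4 orbD4)
open Cfsg.Agent.Schur.RootLift (V le_V V_mono ordered conj_last)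
open Cfsg.Agent.D4Stem (Hyp pr rootsAt rootsAt_check Xo Xp pos comm_p)
open scoped commutatorElement

variable {K : Type*} [Field K]

variable {φ : K ≃+* K}

theorem conj_Xp_fix (j : Fin 2) {o : Fin 12}
    (h : ∀ y ∈ (tw3D4 φ).X' (orbD4.reflF 12 2 j o), y ∈ fixT φ) {y : GL chevD4.Idx K}
    (hy : y ∈ (tw3D4 φ).X' o) : y ∈ fixT φ := by
  have h1 : (tw3D4 φ).nn' j * y * ((tw3D4 φ).nn' j)⁻¹ ∈ fixT φ := h _ (RootBN.Twist.conj_X' (hT φ) hy)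
  have h2 := (fixT φ).mul_mem ((fixT φ).mul_mem ((fixT φ).inv_mem (nn_mem_fixT φ j)) h1) (nn_mem_fixT φ j)
  simpa [mul_assoc] using h2

/-- The long classes are fixed. -/
theorem long_fix {i : ℕ} (hi : i ∈ [1, 3, 5]) {y : GL chevD4.Idx K} (hy : y ∈ Xp φ i) : y ∈ fixT φ := by
  have h5 : ∀ y ∈ (tw3D4 φ).X' 7, y ∈ fixT φ := fun y hy => by
    obtain ⟨s, hs, rfl⟩ := exists_xB φ hy
    exact xB_fix φ hs
  have h1 : ∀ y ∈ (tw3D4 φ).X' 10, y ∈ fixT φ := fun y hy => conj_Xp_fix 1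
    (by rw [show orbD4.reflF 12 2 1 10 = 7 by decide +kernel]; exact h5) hy
  have h3 : ∀ y ∈ (tw3D4 φ).X' 11, y ∈ fixT φ := fun y hy => conj_Xp_fix 0
    (by rw [show orbD4.reflF 12 2 0 11 = 10 by decide +kernel]; exact h1) hy
  simp only [List.mem_cons, List.not_mem_nil, or_false] at hi
  rcases hi with rfl | rfl | rfl
  exacts [h1 y hy, h3 y hy, h5 y hy]

theorem theta_V {a b : ℕ} {u : GL chevD4.Idx K} (hu : u ∈ V (Xp φ) a b) : theta φ u ∈ V (Xp φ) a b :=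
  (show V (Xp φ) a b ≤ (V (Xp φ) a b).comap (theta φ) from iSup₂_le fun _ hc _ hz =>
    le_V (Xp φ) hc.1 hc.2 (theta_X' φ hz)) hu

theorem V_le_Gt {a b : ℕ} : V (Xp φ) a b ≤ (tw3D4 φ).Gt := iSup₂_le fun c _ => D4Stem.Xp_le_Gt φ c

theorem eq_of_mem_single {a : ℕ} {u : GL chevD4.Idx K} (hu : u ∈ V (Xp φ) a (a + 1)) : u ∈ Xp φ a := by
  rwa [Schur.RootLift.V_split _ (by omega : a < a + 1), Schur.RootLift.V_empty _ le_rfl, sup_bot_eq] at hu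

theorem conj_last' {a b : ℕ} (hb : b < 6) {y w : GL chevD4.Idx K} (hy : y ∈ Xp φ b)
    (hw : w ∈ V (Xp φ) a b) : y * w * y⁻¹ ∈ V (Xp φ) a b := by
  have h := conj_last (Xp φ) (a := a) (b := b) (fun c hc1 hc2 x hx z hz => by
    exact V_mono (Xp φ) le_rfl le_rfl (comm_p φ c b hc2 hb x hx z hz))
  exact h _ hy _ hw

theorem le_norm' {a b : ℕ} (hb : b ≤ 6) {x w : GL chevD4.Idx K} (hx : x ∈ Xp φ a)
    (hw : w ∈ V (Xp φ) (a + 1) b) : x * w * x⁻¹ ∈ V (Xp φ) (a + 1) b :=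
  (Subgroup.mem_normalizer_iff.1 (Schur.RootLift.le_normalizer (Xp φ)
    (fun c h1 h2 => comm_p φ a c h1 (by omega)) hx) w).1 hw

theorem ordered' {a b : ℕ} (hab : a < b) (hb : b ≤ 6) {u : GL chevD4.Idx K} (hu : u ∈ V (Xp φ) a b) :
    ∃ x ∈ Xp φ a, ∃ w ∈ V (Xp φ) (a + 1) b, u = x * w := by
  obtain ⟨x, hx, w, hw, e⟩ := ordered (Xp φ) hab (fun c h1 h2 => comm_p φ a c h1 (by omega)) hu
  exact ⟨x, hx, w, hw, e.symm ▸ rfl⟩

variable [Fintype K] {q : ℕ} (h : Hyp φ q) {H : Subgroup (GL chevD4.Idx K)}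
  (hM : (tw3D4 φ).Gt ⊓ fixT φ ≤ H) (hH : H ≤ (tw3D4 φ).Gt) (hne : H ≠ (tw3D4 φ).Gt)
include h hM hH hne

theorem low_fixed : ∀ v ∈ H, v ∈ V (Xp φ) 1 4 → v ∈ fixT φ := by
  intro v hvH hv
  obtain ⟨y₁, hy₁, w, hw, rfl⟩ := ordered' (by norm_num) (by norm_num) hv
  obtain ⟨y₂, hy₂, w', hw', rfl⟩ := ordered' (by norm_num) (by norm_num) hw
  have hy₃ : w' ∈ Xp φ 3 := eq_of_mem_single hw'
  have f1 := long_fix (by simp) hy₁
  have f3 := long_fix (by simp) hy₃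
  have m1 : y₁ ∈ H := hM ⟨D4Stem.Xp_le_Gt φ 1 hy₁, f1⟩
  have m3 : w' ∈ H := hM ⟨D4Stem.Xp_le_Gt φ 3 hy₃, f3⟩
  have m2 : y₂ ∈ H := by
    have := H.mul_mem (H.mul_mem (H.inv_mem m1) hvH) (H.inv_mem m3)
    simpa [mul_assoc] using this
  suffices f2 : y₂ ∈ fixT φ from (fixT φ).mul_mem f1 ((fixT φ).mul_mem f2 f3)
  -- move the short element to the simple class
  set n := (tw3D4 φ).data.nw [0, 1]
  have hn' : n ∈ (tw3D4 φ).Gt ⊓ fixT φ := by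
    have : n = (tw3D4 φ).nn' 0 * (tw3D4 φ).nn' 1 := by simp [n, Data.nw_cons]; rfl
    rw [this]
    exact Subgroup.mul_mem _ ⟨nn_mem_Gt φ 0, nn_mem_fixT φ 0⟩ ⟨nn_mem_Gt φ 1, nn_mem_fixT φ 1⟩
  have hmem : n * y₂ * n⁻¹ ∈ (tw3D4 φ).X' 6 := by
    have := (RootBN.Data.acts_nw (hax φ) [(0 : Fin 2), 1] (pos 2) y₂).2 hy₂
    rwa [D4Invol.wl_apply, show ([(0 : Fin 2), 1]).foldr (orbD4.reflF 12 2) (pos 2) = 6 by decide +kernel] at this
  obtain ⟨t, ht⟩ := exists_eA φ hmem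
  have hA : eA φ t ∈ H := ht ▸ H.mul_mem (H.mul_mem (hM hn') m2) (H.inv_mem (hM hn'))
  have hfix : φ t = t := by
    by_contra hne'
    exact hne (eq_Gt_of_eA h hM hH hne' hA)
  have hfn : n * y₂ * n⁻¹ ∈ fixT φ := ht ▸ (eA_fix_iff φ).2 hfix
  have := (fixT φ).mul_mem ((fixT φ).mul_mem ((fixT φ).inv_mem hn'.2) hfn) hn'.2
  simpa [mul_assoc] using this

theorem mid_fixed : ∀ v ∈ H, v ∈ V (Xp φ) 1 5 → v ∈ fixT φ := by
  intro v hvH hv
  obtain ⟨y₁, hy₁, w, hw, rfl⟩ := ordered' (by norm_num) (by norm_num) hv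
  obtain ⟨y₂, hy₂, w', hw', rfl⟩ := ordered' (by norm_num) (by norm_num) hw
  obtain ⟨y₃, hy₃, w'', hw'', rfl⟩ := ordered' (by norm_num) (by norm_num) hw'
  have hy₄ : w'' ∈ Xp φ 4 := eq_of_mem_single hw''
  have c23 : Commute y₂ y₃ := D4Stem.commute_places (i := 2) (j := 3) (by simp) hy₂ hy₃
  have f1 := long_fix (by simp) hy₁
  have f3 := long_fix (by simp) hy₃
  have e : y₁ * (y₂ * (y₃ * w'')) = y₁ * y₃ * (y₂ * w'') := by
    rw [← mul_assoc y₂, c23.eq]; group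
  rw [e] at hvH ⊢
  have m13 : y₁ * y₃ ∈ H := hM ⟨Subgroup.mul_mem _ (D4Stem.Xp_le_Gt φ 1 hy₁) (D4Stem.Xp_le_Gt φ 3 hy₃),
    (fixT φ).mul_mem f1 f3⟩
  have mw : y₂ * w'' ∈ H := (H.mul_mem_cancel_left m13).1 hvH
  refine (fixT φ).mul_mem ((fixT φ).mul_mem f1 f3) ?_
  -- commute with the short simple root element
  have he : eA φ 1 ∈ Xp φ 0 := eA_mem φ h.cube 1
  have heH : eA φ 1 ∈ H := hM ⟨eA_mem' φ h.cube 1, (eA_fix_iff φ).2 (map_one φ)⟩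
  have hy2V : y₂ ∈ V (Xp φ) 1 4 := le_V (Xp φ) (by norm_num) (by norm_num) hy₂
  have hg : ⁅eA φ 1, y₂ * w''⁆ ∈ V (Xp φ) 1 4 := by
    rw [show ⁅eA φ 1, y₂ * w''⁆ = ⁅eA φ 1, y₂⁆ * (y₂ * ⁅eA φ 1, w''⁆ * y₂⁻¹) by
      simp only [commutatorElement_def]; group]
    refine Subgroup.mul_mem _ (V_mono (Xp φ) le_rfl (by norm_num) (comm_p φ 0 2 (by norm_num) (by norm_num) _ he _ hy₂))
      (Subgroup.mul_mem _ (Subgroup.mul_mem _ hy2V (comm_p φ 0 4 (by norm_num) (by norm_num) _ he _ hy₄))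
        (Subgroup.inv_mem _ hy2V))
  have hgfix := low_fixed h hM hH hne _ (by
    rw [commutatorElement_def]
    exact H.mul_mem (H.mul_mem (H.mul_mem heH mw) (H.inv_mem heH)) (H.inv_mem mw)) hg
  rw [mem_fixT, map_commutatorElement, (mem_fixT φ).1 ((eA_fix_iff φ).2 (map_one φ))] at hgfix
  -- the moved part commutes with it
  have hcomm : Commute (eA φ 1) ((y₂ * w'')⁻¹ * theta φ (y₂ * w'')) := by
    simp only [commutatorElement_def] at hgfix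
    show _ = _
    calc eA φ 1 * ((y₂ * w'')⁻¹ * theta φ (y₂ * w''))
        = (y₂ * w'')⁻¹ * (eA φ 1 * (y₂ * w'') * (eA φ 1)⁻¹ * (y₂ * w'')⁻¹)⁻¹ *
          (eA φ 1 * theta φ (y₂ * w'') * (eA φ 1)⁻¹ * (theta φ (y₂ * w''))⁻¹) *
          theta φ (y₂ * w'') * eA φ 1 := by group
      _ = _ := by rw [hgfix]; group
  obtain ⟨e₁, e₂, e₃, t, he₁, he₂, he₃, ht⟩ := exists_place4 φ h.cube hy₄
  have hθ : theta φ w'' = eSign φ 19 16 15 e₁ e₂ e₃ (φ t) := by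
    simp [ht, eSign, map_mul, he₁.2, he₂.2, he₃.2]
  have hd : w''⁻¹ * theta φ w'' = eSign φ 19 16 15 e₁ e₂ e₃ (φ t - t) := by
    rw [hθ, ht, inv_mul_eq_iff_eq_mul, eSign_eq_pr, eSign_eq_pr, eSign_eq_pr,
      D4Stem.pr_mul (rootsAt 4) (fun r hr => ((rootsAt_check 4).2.1 r hr).1)
        (fun r hr s hs => ⟨((rootsAt_check 4).2.2.2 r hr s hs).1, ((rootsAt_check 4).2.2.2 r hr s hs).2.2⟩)]
    refine D4Stem.pr_congr fun r _ => ?_
    simp only [Pi.add_apply]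
    split_ifs <;> (try simp only [map_sub]) <;> ring
  have hd0 : w''⁻¹ * (y₂⁻¹ * theta φ y₂) * w'' ∈ V (Xp φ) 1 4 := by
    have h2 : y₂⁻¹ * theta φ y₂ ∈ V (Xp φ) 1 4 := Subgroup.mul_mem _ (Subgroup.inv_mem _ hy2V) (theta_V hy2V)
    have := conj_last' (by norm_num) ((Xp φ 4).inv_mem hy₄) h2
    simpa using this
  obtain ⟨z1, z2, z3⟩ := second_zero φ hd0 (e₁ := e₁) (e₂ := e₂) (e₃ := e₃) (x := φ t - t) (by
    rw [← hd]
    convert hcomm using 1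
    rw [map_mul]; group)
  have hx : φ t - t = 0 := by
    have h2x : 2 * (e₁ * (φ t - t)) = 0 := by linear_combination z1 + z2 + z3
    rcases mul_eq_zero.1 h2x with h2 | h2
    · have hone : ∀ e : K, e * e = 1 → e = 1 := fun e he => by
        rcases mul_self_eq_one_iff.1 he with rfl | rfl
        · rfl
        · linear_combination (-1 : K) * h2
      rw [hone e₁ he₁.1, hone e₂ he₂.1, one_mul, one_mul] at z1
      rw [hone e₁ he₁.1, hone e₃ he₃.1, one_mul, one_mul] at z2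
      have hsum : (φ t - t) + φ (φ t - t) + φ (φ (φ t - t)) = 0 := by
        simp only [map_sub, h.cube]; ring
      linear_combination hsum + z1 + z2 - (φ t - t) * h2
    · exact (mul_eq_zero.1 h2).resolve_left fun e0 => by simp [e0] at he₁
  have f4 : w'' ∈ fixT φ := by
    rw [mem_fixT, hθ, sub_eq_zero.1 hx]; exact ht.symm
  have m4 : w'' ∈ H := hM ⟨D4Stem.Xp_le_Gt φ 4 hy₄, f4⟩
  exact (fixT φ).mul_mem (low_fixed h hM hH hne _ ((H.mul_mem_cancel_right m4).1 mw) hy2V) f4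

/-- No new elements in the unipotent subgroup. -/
theorem unipotent_fixed : ∀ v ∈ H, v ∈ (tw3D4 φ).data.U → v ∈ fixT φ := by
  intro v hvH hvU
  rw [← D4Stem.V_eq_U] at hvU
  obtain ⟨y₀, hy₀, w₀, hw₀, rfl⟩ := ordered' (by norm_num) le_rfl hvU
  obtain ⟨y₁, hy₁, w₁, hw₁, rfl⟩ := ordered' (by norm_num) le_rfl hw₀
  obtain ⟨y₂, hy₂, w₂, hw₂, rfl⟩ := ordered' (by norm_num) le_rfl hw₁
  obtain ⟨y₃, hy₃, w₃, hw₃, rfl⟩ := ordered' (by norm_num) le_rfl hw₂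
  obtain ⟨y₄, hy₄, w, hw, rfl⟩ := ordered' (by norm_num) le_rfl hw₃
  have hy₅ : w ∈ Xp φ 5 := eq_of_mem_single hw
  set m := y₁ * (y₂ * (y₃ * y₄)) with hm
  have hmV : m ∈ V (Xp φ) 1 5 :=
    Subgroup.mul_mem _ (le_V (Xp φ) (by norm_num) (by norm_num) hy₁)
      (Subgroup.mul_mem _ (le_V (Xp φ) (by norm_num) (by norm_num) hy₂)
        (Subgroup.mul_mem _ (le_V (Xp φ) (by norm_num) (by norm_num) hy₃)
          (le_V (Xp φ) (by norm_num) (by norm_num) hy₄)))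
  have f5 := long_fix (by simp) hy₅
  have m5 : w ∈ H := hM ⟨D4Stem.Xp_le_Gt φ 5 hy₅, f5⟩
  rw [show y₀ * (y₁ * (y₂ * (y₃ * (y₄ * w)))) = y₀ * m * w by rw [hm]; group] at hvH ⊢
  have mu : y₀ * m ∈ H := (H.mul_mem_cancel_right m5).1 hvH
  refine (fixT φ).mul_mem ?_ f5
  -- commute with the long simple root element
  set a := xg chevD4 K 14 (1 : K)
  have ha : a ∈ Xp φ 5 := D4Invol.xB_mem φ (map_one φ)
  have haH : a ∈ H := hM ⟨xB_mem' φ (map_one φ), xB_fix φ (map_one φ)⟩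
  have hg : ⁅a, y₀ * m⁆ ∈ V (Xp φ) 1 5 := by
    rw [show ⁅a, y₀ * m⁆ = (⁅y₀, a⁆)⁻¹ * (y₀ * (a * m * a⁻¹ * m⁻¹) * y₀⁻¹) by
      simp only [commutatorElement_def]; group]
    exact Subgroup.mul_mem _ (Subgroup.inv_mem _ (comm_p φ 0 5 (by norm_num) (by norm_num) _ hy₀ _ ha))
      (le_norm' (by norm_num) hy₀ (Subgroup.mul_mem _ (conj_last' (by norm_num) ha hmV) (Subgroup.inv_mem _ hmV)))
  have hgfix := mid_fixed h hM hH hne _ (by
    rw [commutatorElement_def]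
    exact H.mul_mem (H.mul_mem (H.mul_mem haH mu) (H.inv_mem haH)) (H.inv_mem mu)) hg
  rw [mem_fixT, map_commutatorElement, (mem_fixT φ).1 (xB_fix φ (map_one φ))] at hgfix
  obtain ⟨t, ht⟩ := exists_eA φ hy₀
  have hθ : theta φ y₀ = eA φ (φ t) := by simp [ht, eA, map_mul]
  have hd : y₀⁻¹ * theta φ y₀ = eA φ (φ t - t) := by
    rw [hθ, ht, inv_mul_eq_iff_eq_mul, eA_add, add_sub_cancel]
  set d := y₀⁻¹ * theta φ y₀
  have hdX : d ∈ Xp φ 0 := (Xp φ 0).mul_mem ((Xp φ 0).inv_mem hy₀) (theta_X' φ hy₀)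
  have hrest : d⁻¹ * m⁻¹ * d * theta φ m ∈ V (Xp φ) 1 5 := by
    refine Subgroup.mul_mem _ ?_ (theta_V hmV)
    have := le_norm' (φ := φ) (a := 0) (b := 5) (by norm_num) ((Xp φ 0).inv_mem hdX) (Subgroup.inv_mem _ hmV)
    simpa using this
  have hcomm : Commute a (d * (d⁻¹ * m⁻¹ * d * theta φ m)) := by
    have e : d * (d⁻¹ * m⁻¹ * d * theta φ m) = (y₀ * m)⁻¹ * theta φ (y₀ * m) := by
      simp only [d, map_mul]; group
    rw [e]
    simp only [commutatorElement_def] at hgfix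
    show _ = _
    calc a * ((y₀ * m)⁻¹ * theta φ (y₀ * m))
        = (y₀ * m)⁻¹ * (a * (y₀ * m) * a⁻¹ * (y₀ * m)⁻¹)⁻¹ *
          (a * theta φ (y₀ * m) * a⁻¹ * (theta φ (y₀ * m))⁻¹) * theta φ (y₀ * m) * a := by group
      _ = _ := by rw [hgfix]; group
  rw [hd] at hcomm
  have hδ := first_zero φ one_ne_zero (by rw [← hd]; exact hrest) hcomm
  have f0 : y₀ ∈ fixT φ := by rw [ht, eA_fix_iff]; exact sub_eq_zero.1 hδ
  have m0 : y₀ ∈ H := hM ⟨D4Stem.Xp_le_Gt φ 0 hy₀, f0⟩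
  exact (fixT φ).mul_mem f0 (mid_fixed h hM hH hne _ ((H.mul_mem_cancel_left m0).1 mu) hmV)

end Cfsg.Agent.D4Sub
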