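/-
³D₄(q): a proper subgroup containing the fixed elements meets the proper parabolic subgroups in fixed elements.
-/
import Cfsg.Agent.Lib.Chev.D4Subfield.Unipotent

set_option autoImplicit false

namespace Cfsg.Agent.D4Sub

open Cfsg.Lie Cfsg.Agent.Chev Cfsg.Agent.Chev.Invol
open Cfsg.Agent.RootBN (Data)
open Cfsg.Agent.D4Invol (hn hk hT hax eA eA_mem exists_eA exists_xB Jl_facts)
open Cfsg.Agent.Chev.BNSetup (tw3D4 orbD4 torusHom torusChar)
open Cfsg.Agent.Schur.RootLift (V le_V V_mono)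
open Cfsg.Agent.D4Stem (Hyp pr rootsAt rootsAt_check Xo Xp pos comm_p)
open scoped commutatorElement

variable {K : Type*} [Field K]

/-- The root element. -/
local notation "X" => xg chevD4 K

variable {φ : K ≃+* K}

/-- The fixed elements of the twisted group. -/
noncomputable def MF (φ : K ≃+* K) : Subgroup (GL chevD4.Idx K) := (tw3D4 φ).Gt ⊓ fixT φ

theorem Xp_le_U {i : ℕ} (hi : i < 6) : Xp φ i ≤ (tw3D4 φ).data.U := by
  rw [← D4Stem.V_eq_U]; exact le_V (Xp φ) (Nat.zero_le i) hi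

theorem U_le_Gt : (tw3D4 φ).data.U ≤ (tw3D4 φ).Gt := by
  rw [← D4Stem.V_eq_U]; exact V_le_Gt

theorem B_le_Gt : (tw3D4 φ).data.B ≤ (tw3D4 φ).Gt := sup_le U_le_Gt inf_le_right

theorem torusChar_reflect (c : Fin chevD4.rank → Kˣ) {i r : ℕ} (hi : i < chevD4.rank) (hr : r < chevD4.nroots) :
    torusChar chevD4 c (chevD4.reflectRoot i r) =
      torusChar chevD4 c r * (torusChar chevD4 c (chevD4.simple i))⁻¹ ^ chevD4.cartan i r := by
  simp only [torusChar, ← Finset.prod_inv_distrib, ← Finset.prod_zpow, ← Finset.prod_mul_distrib]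
  refine Finset.prod_congr rfl fun j _ => ?_
  rw [D4.good.cartan_reflectRoot hi j.2 hr, ← zpow_neg, ← zpow_mul, ← zpow_add]
  congr 1
  ring

/-- A torus element with fixed characters on the fundamental roots is fixed. -/
theorem torus_fix (c : Fin chevD4.rank → Kˣ)
    (h : ∀ i < chevD4.rank, φ (torusChar chevD4 c (chevD4.simple i) : K) = torusChar chevD4 c (chevD4.simple i)) :
    torusHom K chevD4 c ∈ fixT φ := by
  have hall : ∀ r < chevD4.nroots, φ (torusChar chevD4 c r : K) = torusChar chevD4 c r := fun r hr =>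
    D4.good.root_induction (P := fun r => φ (torusChar chevD4 c r : K) = torusChar chevD4 c r) h
      (fun i hi s hs ih => by
        rw [torusChar_reflect c hi hs, Units.val_mul, map_mul, ih, Units.val_zpow_eq_zpow_val, map_zpow₀,
          Units.val_inv_eq_inv_val, map_inv₀, h i hi]) hr
  rw [mem_fixT, theta_torusHom]
  refine Units.ext ?_
  rw [BNSetup.coe_torusHom, BNSetup.coe_torusHom]
  refine hdiag_congr chevD4 fun s hs => ?_
  rw [← hall s hs]
  simp [torusChar, map_prod, map_zpow₀, Units.val_zpow_eq_zpow_val]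

theorem long_one_check : ∀ r ∈ ([14] : List ℕ), ∀ s ∈ [22],
    s ≠ r ∧ s ≠ chevD4.neg r ∧ ∀ x ∈ chevD4.commTerms r s, x.1 ∈ [23] := by decide +kernel

/-- The subgroup of the two long classes that are not simple. -/
noncomputable def longW (φ : K ≃+* K) : Subgroup (GL chevD4.Idx K) := Xp φ 1 ⊔ Xp φ 3

theorem longW_fix : longW φ ≤ fixT φ :=
  sup_le (fun _ h => long_fix (by simp) h) (fun _ h => long_fix (by simp) h)

theorem conj_longW_Xp {c : ℕ} (hc : c < 6) {y z : GL chevD4.Idx K} (hy : y ∈ Xp φ c) (hz : z ∈ longW φ) :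
    y * z * y⁻¹ ∈ longW φ := by
  have h3 : ∀ z ∈ Xp φ 3, y * z * y⁻¹ = z := by
    intro z hz
    have key : Commute y z := by
      interval_cases c
      · exact D4Stem.commute_places (i := 0) (j := 3) (by simp) hy hz
      · exact D4Stem.commute_places (i := 1) (j := 3) (by simp) hy hz
      · exact D4Stem.commute_places (i := 2) (j := 3) (by simp) hy hz
      · exact D4Stem.commute_Xo φ (3 : Fin 6) hy.1 hz.1
      · exact (D4Stem.commute_places (i := 3) (j := 4) (by simp) hz hy).symm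
      · exact (D4Stem.commute_places (i := 3) (j := 5) (by simp) hz hy).symm
    rw [key.eq, mul_inv_cancel_right]
  refine (show longW φ ≤ (longW φ).comap (MulAut.conj y).toMonoidHom from sup_le (fun z hz => ?_) fun z hz => ?_) hz
  · show y * z * y⁻¹ ∈ longW φ
    by_cases hc5 : c = 5
    · subst hc5
      obtain ⟨s, hs, rfl⟩ := exists_xB φ hy
      obtain ⟨u, rfl⟩ := D4Stem.exists_pr φ (1 : Fin 6) hz.1
      have e : pr (rootsAt (1 : Fin 6).val) u = X 22 (u 22) := by simp [rootsAt]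
      rw [e] at hz ⊢
      obtain ⟨h1, h2, h3'⟩ := long_one_check 14 (by simp) 22 (by simp)
      have hm := comm_mem (K := K) (r := 14) (s := 22) (by omega) (by omega) h1 h2 h3' s (u 22)
      have hXo : ⁅X 14 s, X 22 (u 22)⁆ ∈ Xo φ 3 := by
        refine (show gen chevD4 K [23] ≤ Xo φ 3 from gen_le fun r hr t => ?_) hm
        rw [List.mem_singleton] at hr
        subst hr
        exact D4Stem.xg_mem_Xorb φ (by omega) ((by decide +kernel : orbD4.orbF 12 23 = pos 3)) t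
      have hXp : ⁅X 14 s, X 22 (u 22)⁆ ∈ Xp φ 3 :=
        ⟨hXo, RootBN.Twist.mem_Fix.2 (by
          rw [map_commutatorElement, RootBN.Twist.mem_Fix.1 hy.2, RootBN.Twist.mem_Fix.1 hz.2])⟩
      rw [show X 14 s * X 22 (u 22) * (X 14 s)⁻¹ = ⁅X 14 s, X 22 (u 22)⁆ * X 22 (u 22) by
        simp only [commutatorElement_def]; group]
      exact Subgroup.mul_mem _ (Subgroup.mem_sup_right hXp) (Subgroup.mem_sup_left hz)
    · have key : Commute y z := by
        interval_cases c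
        · exact D4Stem.commute_places (i := 0) (j := 1) (by simp) hy hz
        · exact D4Stem.commute_Xo φ (1 : Fin 6) hy.1 hz.1
        · exact (D4Stem.commute_places (i := 1) (j := 2) (by simp) hz hy).symm
        · exact (D4Stem.commute_places (i := 1) (j := 3) (by simp) hz hy).symm
        · exact (D4Stem.commute_places (i := 1) (j := 4) (by simp) hz hy).symm
        · omega
      rw [key.eq, mul_inv_cancel_right]
      exact Subgroup.mem_sup_left hz
  · show y * z * y⁻¹ ∈ longW φ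
    rw [h3 z hz]
    exact Subgroup.mem_sup_right hz

theorem conj_longW {b z : GL chevD4.Idx K} (hb : b ∈ (tw3D4 φ).data.B) (hz : z ∈ longW φ) :
    b * z * b⁻¹ ∈ longW φ ∧ b⁻¹ * z * b ∈ longW φ := by
  suffices key : ∀ b ∈ (tw3D4 φ).data.B, ∀ z ∈ longW φ, b * z * b⁻¹ ∈ longW φ by
    exact ⟨key b hb z hz, by simpa using key b⁻¹ (Subgroup.inv_mem _ hb) z hz⟩
  intro b hb z hz
  obtain ⟨u, hu, t, ht, rfl⟩ := (Data.mem_B_iff (hax φ)).1 hb
  have hH : t * z * t⁻¹ ∈ longW φ :=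
    (show longW φ ≤ (longW φ).comap (MulAut.conj t).toMonoidHom from sup_le
      (fun w hw => Subgroup.mem_sup_left ((hax φ).H_conj (pos 1) t ht w hw))
      (fun w hw => Subgroup.mem_sup_right ((hax φ).H_conj (pos 3) t ht w hw))) hz
  rw [show u * t * z * (u * t)⁻¹ = u * (t * z * t⁻¹) * u⁻¹ by group]
  rw [← D4Stem.V_eq_U] at hu
  have key : V (Xp φ) 0 6 ≤ Subgroup.normalizer (longW φ : Set (GL chevD4.Idx K)) := by
    refine iSup₂_le fun c hc y hy => Subgroup.mem_normalizer_iff.2 fun w => ⟨fun hw => conj_longW_Xp hc.2 hy hw,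
      fun hw => ?_⟩
    have := conj_longW_Xp hc.2 ((Xp φ c).inv_mem hy) hw
    simpa [mul_assoc] using this
  exact (Subgroup.mem_normalizer_iff.1 (key hu) _).1 hH

variable [Fintype K] {q : ℕ} (h : Hyp φ q) {H : Subgroup (GL chevD4.Idx K)}
  (hM : MF φ ≤ H) (hH : H ≤ (tw3D4 φ).Gt) (hne : H ≠ (tw3D4 φ).Gt)
include h hM hH hne

/-- The Borel subgroup meets the subgroup in fixed elements. -/
theorem borel_fixed : ∀ g ∈ H, g ∈ (tw3D4 φ).data.B → g ∈ fixT φ := by
  intro g hgH hgB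
  obtain ⟨u, hu, t, ht, rfl⟩ := (Data.mem_B_iff (hax φ)).1 hgB
  obtain ⟨c, rfl⟩ : ∃ c, torusHom K chevD4 c = t := by
    have h1 : t ∈ chevD4.diagonalSubgroup K := ht.1
    rwa [BNSetup.diagonal_eq_range D4.good, MonoidHom.mem_range] at h1
  have hlong : φ (torusChar chevD4 c 14 : K) = torusChar chevD4 c 14 := by
    have h1 : torusHom K chevD4 c * X 14 1 * (torusHom K chevD4 c)⁻¹ ∈ Xp φ 5 :=
      (hax φ).H_conj (pos 5) _ ht _ (D4Invol.xB_mem φ (map_one φ))
    have h2 := long_fix (by simp) h1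
    rw [D4Stem.conj_xg c (by omega), mul_one, mem_fixT, theta_xg] at h2
    exact D4Stem.xg_inj (by omega) (by omega) h2
  set e := eA φ (1 : K)
  have he : e ∈ Xp φ 0 := eA_mem φ h.cube 1
  set x := torusHom K chevD4 c * e * (torusHom K chevD4 c)⁻¹ with hx
  have hxX : x ∈ Xp φ 0 := (hax φ).H_conj (pos 0) _ ht _ he
  obtain ⟨s, hs⟩ := exists_eA φ hxX
  have hu' := hu
  rw [← D4Stem.V_eq_U] at hu'
  obtain ⟨y₀, hy₀, w, hw, rfl⟩ := ordered' (by norm_num) le_rfl hu'
  set g' := y₀ * w * torusHom K chevD4 c with hg'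
  have hgfix : y₀ * w * x * (y₀ * w)⁻¹ ∈ fixT φ := by
    refine unipotent_fixed h hM hH hne _ ?_ ?_
    · rw [show y₀ * w * x * (y₀ * w)⁻¹ = g' * e * g'⁻¹ by rw [hg', hx]; group]
      exact H.mul_mem (H.mul_mem hgH (hM ⟨eA_mem' φ h.cube 1, (eA_fix_iff φ).2 (map_one φ)⟩)) (H.inv_mem hgH)
    · exact Subgroup.mul_mem _ (Subgroup.mul_mem _ hu (Xp_le_U (by norm_num) hxX)) (Subgroup.inv_mem _ hu)
  -- modulo the higher classes
  set v := x⁻¹ * (y₀ * w * x * (y₀ * w)⁻¹) with hv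
  have hvV : v ∈ V (Xp φ) 1 6 := by
    have c0 : Commute y₀ x := D4Stem.commute_Xo φ (0 : Fin 6) hy₀.1 hxX.1
    rw [show v = x⁻¹ * (y₀ * x) * ((x⁻¹ * w * x) * w⁻¹) * y₀⁻¹ by rw [hv]; group, c0.eq, inv_mul_cancel_left]
    refine le_norm' (by norm_num) hy₀ (Subgroup.mul_mem _ ?_ (Subgroup.inv_mem _ hw))
    have := le_norm' (φ := φ) (a := 0) (b := 6) le_rfl ((Xp φ 0).inv_mem hxX) hw
    simpa using this
  have hfix : x⁻¹ * theta φ x ∈ Xp φ 0 ⊓ V (Xp φ) 1 6 := by
    refine ⟨(Xp φ 0).mul_mem ((Xp φ 0).inv_mem hxX) (theta_X' φ hxX), ?_⟩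
    have e1 : theta φ x * theta φ v = x * v := by
      have := (mem_fixT φ).1 hgfix
      rw [← map_mul, show x * v = y₀ * w * x * (y₀ * w)⁻¹ by rw [hv]; group]
      exact this
    rw [show x⁻¹ * theta φ x = v * (theta φ v)⁻¹ by
      rw [eq_mul_inv_iff_mul_eq, mul_assoc, e1, inv_mul_cancel_left]]
    exact Subgroup.mul_mem _ hvV (Subgroup.inv_mem _ (theta_V hvV))
  rw [D4Stem.disjoint_p φ (by norm_num) le_rfl, Subgroup.mem_bot, inv_mul_eq_one] at hfix
  have hs' : φ s = s := by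
    refine (eA_fix_iff φ).1 ?_
    rw [← hs, mem_fixT]; exact hfix.symm
  have hchar : ∀ r ∈ rootsAt 0, (torusChar chevD4 c r : K) = s := by
    have e1 : x = eA φ s := hs
    rw [hx, show e = eA φ 1 from rfl, eA_eq_pr, eA_eq_pr, D4Stem.conj_pr c (L := rootsAt 0) (fun r hr => ((rootsAt_check 0).2.1 r hr).1)] at e1
    intro r hr
    have := D4Stem.pr_inj (rootsAt 0) (fun r hr => ⟨((rootsAt_check 0).2.1 r hr).1, ((rootsAt_check 0).2.1 r hr).2.1⟩)
      (rootsAt_check 0).2.2.1 (fun a ha b hb => ((rootsAt_check 0).2.2.2 a ha b hb).2.1) _ _ e1 r hr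
    simpa [hs', map_one] using this
  have ht' : torusHom K chevD4 c ∈ fixT φ := by
    refine torus_fix c fun i hi => ?_
    rw [hk] at hi
    obtain ⟨-, -, s0, s1, s2, s3, -, -⟩ := Jl_facts
    interval_cases i
    · rw [s0, hchar 18 (by simp [rootsAt]), hs']
    · rw [s1]; exact hlong
    · rw [s2, hchar 13 (by simp [rootsAt]), hs']
    · rw [s3, hchar 12 (by simp [rootsAt]), hs']
  have htH : torusHom K chevD4 c ∈ H := hM ⟨ht.2, ht'⟩
  exact (fixT φ).mul_mem (unipotent_fixed h hM hH hne _ ((H.mul_mem_cancel_right htH).1 hgH) hu) ht'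

omit [Fintype K] h hM hH hne in
theorem cell_simp_form {j : Fin 2} {g : GL chevD4.Idx K}
    (hg : g ∈ (tw3D4 φ).data.cell ((tw3D4 φ).data.refl j)) :
    ∃ b ∈ (tw3D4 φ).data.B, ∃ y ∈ (tw3D4 φ).data.X ((tw3D4 φ).data.simp j),
      g = b * (tw3D4 φ).data.nn j * y := by
  have ax := hax φ
  obtain ⟨b, hb, c, hc, rfl⟩ := (Data.mem_cell_iff ax (Data.nn_mem_N j) (Data.acts_nn ax j)).1 hg
  obtain ⟨y, hy, v, hv, t, ht, rfl⟩ := Data.B_decomp ax j hc
  set n := (tw3D4 φ).data.nn j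
  refine ⟨b * (n * ((y * v * y⁻¹) * t) * n⁻¹), Subgroup.mul_mem _ hb
    (Data.nn_conj_rad ax (Data.X_conj_Urad ax hy hv) ht).1, t⁻¹ * y * t, ?_, by group⟩
  simpa using ax.H_conj _ t⁻¹ (Subgroup.inv_mem _ ht) y hy

/-- A parabolic subgroup of rank one meets the subgroup in fixed elements. -/
theorem parabolic_fixed (j : Fin 2) : ∀ g ∈ H, g ∈ (tw3D4 φ).data.cell ((tw3D4 φ).data.refl j) → g ∈ fixT φ := by
  intro g hgH hg
  obtain ⟨b, hb, y, hy, rfl⟩ := cell_simp_form hg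
  set n := (tw3D4 φ).data.nn j
  have hnM : n ∈ MF φ := ⟨nn_mem_Gt φ j, nn_mem_fixT φ j⟩
  suffices hyfix : y ∈ fixT φ by
    have hny : n * y ∈ MF φ := Subgroup.mul_mem _ hnM ⟨RootBN.Twist.X'_le_Gt _ hy, hyfix⟩
    rw [mul_assoc] at hgH ⊢
    exact (fixT φ).mul_mem (borel_fixed h hM hH hne b ((H.mul_mem_cancel_right (hM hny)).1 hgH) hb) hny.2
  fin_cases j
  · exact long_fix (i := 5) (by simp) (show y ∈ Xp φ 5 by
      have := hy
      rw [D4Invol.simp_eq] at this
      simp only [Fin.zero_eta, Fin.mk_one] at this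
      rw [Jl_facts.2.2.2.2.2.2.1] at this
      exact this)
  · obtain ⟨t, rfl⟩ := exists_eA φ (show y ∈ (tw3D4 φ).X' 6 by
      have := hy
      rw [D4Invol.simp_eq] at this
      simp only [Fin.zero_eta, Fin.mk_one] at this
      rw [Jl_facts.2.2.2.2.2.2.2] at this
      exact this)
    -- the long root element above
    have hn1 : n = (tw3D4 φ).nn' 1 := rfl
    set x := n * X 14 (1 : K) * n⁻¹ with hxdef
    have hrefl : (tw3D4 φ).refl' 1 (pos 5) = pos 1 ∧ (tw3D4 φ).refl' 1 (pos 1) = pos 5 ∧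
        (tw3D4 φ).refl' 1 (pos 3) = pos 3 :=
      (show orbD4.reflF 12 2 1 (pos 5) = pos 1 ∧ orbD4.reflF 12 2 1 (pos 1) = pos 5 ∧
        orbD4.reflF 12 2 1 (pos 3) = pos 3 by decide +kernel)
    have hx1 : x ∈ Xp φ 1 := by
      have := RootBN.Twist.conj_X' (hT φ) (j := 1) (o := pos 5) (D4Invol.xB_mem φ (map_one φ) : X 14 (1 : K) ∈ (tw3D4 φ).X' (pos 5))
      rw [hrefl.1] at this
      exact this
    have hxne : x ≠ 1 := fun e => one_ne_zero (D4Stem.xg_eq_one (K := K) (r := 14) (t := 1) (by omega) (by omega)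
      (conj_eq_one_iff.1 e))
    obtain ⟨p₁, hp₁, p₃, hp₃, hv⟩ : ∃ p₁ ∈ Xp φ 1, ∃ p₃ ∈ Xp φ 3, b⁻¹ * x * b = p₁ * p₃ := by
      have h1 := (conj_longW hb (Subgroup.mem_sup_left hx1)).2
      have hn' : Xp φ 1 ≤ Subgroup.normalizer (Xp φ 3 : Set (GL chevD4.Idx K)) := fun p hp =>
        Subgroup.mem_normalizer_iff.2 fun w => by
          constructor
          · intro hw
            rw [(D4Stem.commute_places (i := 1) (j := 3) (by simp) hp hw).eq, mul_inv_cancel_right]
            exact hw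
          · intro hw
            have := (D4Stem.commute_places (i := 1) (j := 3) (by simp) ((Xp φ 1).inv_mem hp) hw)
            have e : w = p⁻¹ * (p * w * p⁻¹) * p⁻¹⁻¹ := by group
            rw [e, this.eq, mul_inv_cancel_right]
            exact hw
      rw [longW, ← SetLike.mem_coe, Subgroup.coe_mul_of_left_le_normalizer_right _ _ hn', Set.mem_mul] at h1
      obtain ⟨p₁, hp₁, p₃, hp₃, e⟩ := h1
      exact ⟨p₁, hp₁, p₃, hp₃, e.symm⟩
    have hp₁1 : p₁ ≠ 1 := by
      rintro rfl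
      rw [one_mul] at hv
      have h3 : x ∈ Xp φ 3 := by
        have e : x = b * p₃ * b⁻¹ := by rw [← hv]; group
        obtain ⟨u, hu, t', ht', rfl⟩ := (Data.mem_B_iff (hax φ)).1 hb
        have hz : t' * p₃ * t'⁻¹ ∈ Xp φ 3 := (hax φ).H_conj (pos 3) t' ht' _ hp₃
        have hcent : V (Xp φ) 0 6 ≤ Subgroup.centralizer {t' * p₃ * t'⁻¹} := iSup₂_le fun c hc y' hy' => by
          rw [Subgroup.mem_centralizer_singleton_iff]
          obtain hlt := hc.2
          interval_cases c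
          · exact (D4Stem.commute_places (i := 0) (j := 3) (by simp) hy' hz).eq
          · exact (D4Stem.commute_places (i := 1) (j := 3) (by simp) hy' hz).eq
          · exact (D4Stem.commute_places (i := 2) (j := 3) (by simp) hy' hz).eq
          · exact (D4Stem.commute_Xo φ (3 : Fin 6) hy'.1 hz.1).eq
          · exact (D4Stem.commute_places (i := 3) (j := 4) (by simp) hz hy').eq.symm
          · exact (D4Stem.commute_places (i := 3) (j := 5) (by simp) hz hy').eq.symm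
        rw [← D4Stem.V_eq_U] at hu
        have hc' := Subgroup.mem_centralizer_singleton_iff.1 (hcent hu)
        rw [e, show u * t' * p₃ * (u * t')⁻¹ = u * (t' * p₃ * t'⁻¹) * u⁻¹ by group, hc', mul_inv_cancel_right]
        exact hz
      have := (D4Stem.disjoint_p φ (show 1 < 4 by norm_num) (by norm_num : 4 ≤ 6)).le
        (show x ∈ Xp φ 1 ⊓ V (Xp φ) 2 4 from ⟨hx1, le_V (Xp φ) (by norm_num) (by norm_num) h3⟩)
      exact hxne (Subgroup.mem_bot.1 this)
    have hq3 : n⁻¹ * p₃ * n ∈ Xp φ 3 := by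
      have h3 := (RootBN.Data.acts_nn (hax φ) 1 (pos 3) (n⁻¹ * p₃ * n)).1 (by
        show n * (n⁻¹ * p₃ * n) * n⁻¹ ∈ (tw3D4 φ).X' ((tw3D4 φ).refl' 1 (pos 3))
        rw [hrefl.2.2, show n * (n⁻¹ * p₃ * n) * n⁻¹ = p₃ by group]
        exact hp₃)
      exact h3
    have hq5 : n⁻¹ * p₁ * n ∈ Xp φ 5 := by
      have h3 := (RootBN.Data.acts_nn (hax φ) 1 (pos 5) (n⁻¹ * p₁ * n)).1 (by
        show n * (n⁻¹ * p₁ * n) * n⁻¹ ∈ (tw3D4 φ).X' ((tw3D4 φ).refl' 1 (pos 5))
        rw [hrefl.1, show n * (n⁻¹ * p₁ * n) * n⁻¹ = p₁ by group]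
        exact hp₁)
      exact h3
    obtain ⟨c, hc, hcX⟩ := exists_xB φ hq5
    have hc0 : c ≠ 0 := by
      rintro rfl
      rw [(D4.good : Good chevD4).xg_zero] at hcX
      refine hp₁1 ?_
      have : p₁ = n * (n⁻¹ * p₁ * n) * n⁻¹ := by group
      rw [this, hcX, mul_one, mul_inv_cancel]
    have hxH : x ∈ H := hM ⟨RootBN.Twist.X'_le_Gt _ hx1, long_fix (by simp) hx1⟩
    set y := eA φ t with hydef
    have hyX : y ∈ Xp φ 0 := eA_mem φ h.cube t
    have hfix : y⁻¹ * X 14 c * y * (n⁻¹ * p₃ * n) ∈ fixT φ := by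
      have c03 : Commute y (n⁻¹ * p₃ * n) := D4Stem.commute_places (i := 0) (j := 3) (by simp) hyX hq3
      refine unipotent_fixed h hM hH hne _ ?_ ?_
      · have e : y⁻¹ * X 14 c * y * (n⁻¹ * p₃ * n) = (b * n * y)⁻¹ * x * (b * n * y) := by
          rw [← hcX, show (b * n * y)⁻¹ * x * (b * n * y) = y⁻¹ * (n⁻¹ * (b⁻¹ * x * b) * n) * y by group, hv,
            show y⁻¹ * (n⁻¹ * (p₁ * p₃) * n) * y = y⁻¹ * (n⁻¹ * p₁ * n) * ((n⁻¹ * p₃ * n) * y) by group, ← c03.eq]
          group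
        rw [e]
        exact H.mul_mem (H.mul_mem (H.inv_mem hgH) hxH) hgH
      · have u0 : y ∈ (tw3D4 φ).data.U := Xp_le_U (i := 0) (by norm_num) hyX
        have u5 : X 14 c ∈ (tw3D4 φ).data.U := by rw [← hcX]; exact Xp_le_U (i := 5) (by norm_num) hq5
        have u3 : n⁻¹ * p₃ * n ∈ (tw3D4 φ).data.U := Xp_le_U (i := 3) (by norm_num) hq3
        exact Subgroup.mul_mem _ (Subgroup.mul_mem _ (Subgroup.mul_mem _ (Subgroup.inv_mem _ u0) u5) u0) u3
    have hfix' : y⁻¹ * X 14 c * y ∈ fixT φ :=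
      ((fixT φ).mul_mem_cancel_right (long_fix (by simp) hq3)).1 hfix
    rw [mem_fixT, map_mul, map_mul, map_inv, theta_xg, hc,
      show theta φ y = eA φ (φ t) by simp [hydef, eA, map_mul]] at hfix'
    have hd : eA φ (φ t) * y⁻¹ = eA φ (φ t - t) := by
      rw [mul_inv_eq_iff_eq_mul, hydef, eA_add, sub_add_cancel]
    have hcomm : Commute (X 14 c) (eA φ (φ t - t) * 1) := by
      rw [mul_one, ← hd]
      show _ = _
      calc X 14 c * (eA φ (φ t) * y⁻¹)
          = eA φ (φ t) * ((eA φ (φ t))⁻¹ * X 14 c * eA φ (φ t)) * y⁻¹ := by group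
        _ = _ := by rw [hfix']; group
    have := first_zero φ hc0 (Subgroup.one_mem _) hcomm
    exact (eA_fix_iff φ).2 (sub_eq_zero.1 this)

end Cfsg.Agent.D4Sub
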