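/-
³D₄(q): a proper subgroup containing the fixed elements consists of fixed elements. For an element `x` of the
subgroup the commutator of a long root element with its conjugate under `x` is a long root element of the
subgroup lying in `U`; it is fixed, and this forces the parameters of `x` to be fixed.
-/
import Cfsg.Agent.Lib.Chev.D4Subfield.Parabolic

set_option autoImplicit false

namespace Cfsg.Agent.D4Sub

open Cfsg.Lie Cfsg.Agent.Chev Cfsg.Agent.Chev.Invol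
open Cfsg.Agent.RootBN (Data)
open Cfsg.Agent.D4Invol (hn hk hT hax eA eA_mem exists_eA exists_xB Jl_facts)
open Cfsg.Agent.Chev.BNSetup (tw3D4 orbD4)
open Cfsg.Agent.Schur.RootLift (V le_V V_mono)
open Cfsg.Agent.D4Stem (Hyp pr rootsAt Xo Xp pos)
open scoped commutatorElement

variable {K : Type*} [Field K]

/-- The root element. -/
local notation "X" => xg chevD4 K

variable {φ : K ≃+* K}

theorem refl_table :
    orbD4.reflF 12 2 0 (pos 1) = pos 3 ∧ orbD4.reflF 12 2 0 (pos 3) = pos 1 ∧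
    orbD4.reflF 12 2 1 (pos 5) = pos 1 ∧ orbD4.reflF 12 2 1 (pos 1) = pos 5 ∧
    orbD4.reflF 12 2 1 (pos 3) = pos 3 := by decide +kernel

theorem conj_nn {j : Fin 2} {i k : ℕ} (e : orbD4.reflF 12 2 j (pos i) = pos k) {y : GL chevD4.Idx K}
    (hy : y ∈ Xp φ i) : (tw3D4 φ).data.nn j * y * ((tw3D4 φ).data.nn j)⁻¹ ∈ Xp φ k := by
  have h1 := RootBN.Twist.conj_X' (hT φ) (j := j) (o := pos i) hy
  rw [show (tw3D4 φ).refl' j (pos i) = pos k from e] at h1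
  exact h1

theorem conj_nn_inv {j : Fin 2} {i k : ℕ} (e : orbD4.reflF 12 2 j (pos k) = pos i) {y : GL chevD4.Idx K}
    (hy : y ∈ Xp φ i) : ((tw3D4 φ).data.nn j)⁻¹ * y * (tw3D4 φ).data.nn j ∈ Xp φ k := by
  refine (RootBN.Data.acts_nn (hax φ) j (pos k) (((tw3D4 φ).data.nn j)⁻¹ * y * (tw3D4 φ).data.nn j)).1 ?_
  show (tw3D4 φ).data.nn j * (((tw3D4 φ).data.nn j)⁻¹ * y * (tw3D4 φ).data.nn j) * ((tw3D4 φ).data.nn j)⁻¹ ∈
    (tw3D4 φ).X' ((tw3D4 φ).refl' j (pos k))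
  rw [show (tw3D4 φ).refl' j (pos k) = pos i from e]
  rw [show (tw3D4 φ).data.nn j * (((tw3D4 φ).data.nn j)⁻¹ * y * (tw3D4 φ).data.nn j) *
    ((tw3D4 φ).data.nn j)⁻¹ = y by group]
  exact hy

theorem highest_commute {i : ℕ} (hi : i < 6) {y z : GL chevD4.Idx K} (hy : y ∈ Xp φ i) (hz : z ∈ Xp φ 3) :
    Commute y z := by
  interval_cases i
  · exact D4Stem.commute_places (i := 0) (j := 3) (by simp) hy hz
  · exact D4Stem.commute_places (i := 1) (j := 3) (by simp) hy hz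
  · exact D4Stem.commute_places (i := 2) (j := 3) (by simp) hy hz
  · exact D4Stem.commute_Xo φ (3 : Fin 6) hy.1 hz.1
  · exact (D4Stem.commute_places (i := 3) (j := 4) (by simp) hz hy).symm
  · exact (D4Stem.commute_places (i := 3) (j := 5) (by simp) hz hy).symm

theorem highest_U {u z : GL chevD4.Idx K} (hu : u ∈ (tw3D4 φ).data.U) (hz : z ∈ Xp φ 3) : Commute u z := by
  rw [← D4Stem.V_eq_U] at hu
  have hcent : V (Xp φ) 0 6 ≤ Subgroup.centralizer {z} := iSup₂_le fun c hc y hy => by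
    rw [Subgroup.mem_centralizer_singleton_iff]
    exact (highest_commute hc.2 hy hz).eq
  exact Subgroup.mem_centralizer_singleton_iff.1 (hcent hu)

theorem highest_B {b z : GL chevD4.Idx K} (hb : b ∈ (tw3D4 φ).data.B) (hz : z ∈ Xp φ 3) :
    b * z * b⁻¹ ∈ Xp φ 3 := by
  obtain ⟨u, hu, t, ht, rfl⟩ := (Data.mem_B_iff (hax φ)).1 hb
  have h1 : t * z * t⁻¹ ∈ Xp φ 3 := (hax φ).H_conj (pos 3) t ht z hz
  rw [show u * t * z * (u * t)⁻¹ = u * (t * z * t⁻¹) * u⁻¹ by group, (highest_U hu h1).eq, mul_inv_cancel_right]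
  exact h1

/-- The parabolic subgroup of the short root, as a set. -/
def InP (φ : K ≃+* K) (g : GL chevD4.Idx K) : Prop :=
  g ∈ (tw3D4 φ).data.B ∨ g ∈ (tw3D4 φ).data.cell ((tw3D4 φ).data.refl 1)

theorem inP_mul {b g : GL chevD4.Idx K} (hb : b ∈ (tw3D4 φ).data.B) (hg : InP φ g) : InP φ (b * g) :=
  hg.imp (fun hg => Subgroup.mul_mem _ hb hg) fun hg => by
    simpa using Data.mul_mem_cell hg hb (Subgroup.one_mem _)

theorem highest_P {g z : GL chevD4.Idx K} (hg : InP φ g) (hz : z ∈ Xp φ 3) : g * z * g⁻¹ ∈ Xp φ 3 := by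
  rcases hg with hg | hg
  · exact highest_B hg hz
  · obtain ⟨b, hb, c, hc, rfl⟩ := (Data.mem_cell_iff (hax φ) (Data.nn_mem_N 1) (Data.acts_nn (hax φ) 1)).1 hg
    set n := (tw3D4 φ).data.nn 1
    rw [show b * n * c * z * (b * n * c)⁻¹ = b * (n * (c * z * c⁻¹) * n⁻¹) * b⁻¹ by group]
    exact highest_B hb (conj_nn refl_table.2.2.2.2 (highest_B hc hz))

theorem comm_long_check : ∃ c : ℤ, chevD4.commTerms 14 22 = [(23, c, 1, 1)] ∧ (c = 1 ∨ c = -1) ∧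
    (22 : ℕ) ≠ 14 ∧ (22 : ℕ) ≠ chevD4.neg 14 := by
  have : (∃ c ∈ [(1 : ℤ), -1], chevD4.commTerms 14 22 = [(23, c, 1, 1)]) ∧ (22 : ℕ) ≠ chevD4.neg 14 := by
    decide +kernel
  obtain ⟨⟨c, hc, e⟩, h⟩ := this
  exact ⟨c, e, by simpa using hc, by norm_num, h⟩

/-- The two simple-chain long classes multiply into the highest one. -/
theorem comm_long {x y : GL chevD4.Idx K} (hx : x ∈ Xp φ 5) (hy : y ∈ Xp φ 1) :
    ⁅x, y⁆ ∈ Xp φ 3 ∧ (x ≠ 1 → y ≠ 1 → ⁅x, y⁆ ≠ 1) := by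
  obtain ⟨s, hs, rfl⟩ := exists_xB φ hx
  obtain ⟨u, e⟩ := D4Stem.exists_pr φ (1 : Fin 6) hy.1
  have e' : y = X 22 (u 22) := by rw [e]; simp [rootsAt]
  subst e'
  obtain ⟨c, hc, hc1, hne, hne'⟩ := comm_long_check
  have hw := D4Stem.comm_word (K := K) (r := 14) (s := 22) (by omega) (by omega) hne hne' hc s (u 22)
  refine ⟨⟨?_, RootBN.Twist.mem_Fix.2 (by
    rw [map_commutatorElement, RootBN.Twist.mem_Fix.1 hx.2, RootBN.Twist.mem_Fix.1 hy.2])⟩, fun h1 h2 h3 => ?_⟩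
  · rw [hw]
    exact D4Stem.xg_mem_Xorb φ (by omega) ((by decide +kernel : orbD4.orbF 12 23 = pos 3)) _
  · rw [hw] at h3
    have h4 := D4Stem.xg_eq_one (K := K) (r := 23) (by omega) (by omega) h3
    have hc0 : (c : K) ≠ 0 := by rcases hc1 with rfl | rfl <;> simp
    rcases mul_eq_zero.1 ((mul_eq_zero.1 h4).resolve_left hc0) with h5 | h5
    · exact h1 (by rw [h5, (D4.good : Good chevD4).xg_zero])
    · exact h2 (by rw [h5, (D4.good : Good chevD4).xg_zero])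

/-- A highest element moved along the chain. -/
theorem chain_form {l z : GL chevD4.Idx K} (hl : l ∈ Xp φ 5) (hz : z ∈ Xp φ 3) (hz1 : z ≠ 1) :
    ∃ c : K, c ≠ 0 ∧ φ c = c ∧ X 14 c ∈ Xp φ 5 ∧ ∃ w ∈ Xp φ 3,
      (tw3D4 φ).data.nn 1 * l * (tw3D4 φ).data.nn 0 * z *
        ((tw3D4 φ).data.nn 1 * l * (tw3D4 φ).data.nn 0)⁻¹ = X 14 c * w := by
  obtain ⟨t1, t2, t3, t4, t5⟩ := refl_table
  set n0 := (tw3D4 φ).data.nn 0
  set n1 := (tw3D4 φ).data.nn 1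
  have hy : n0 * z * n0⁻¹ ∈ Xp φ 1 := conj_nn t2 hz
  set y := n0 * z * n0⁻¹ with hydef
  have hcy : ⁅l, y⁆ ∈ Xp φ 3 := (comm_long hl hy).1
  have hw : n1 * ⁅l, y⁆ * n1⁻¹ ∈ Xp φ 3 := conj_nn t5 hcy
  have hv : n1 * y * n1⁻¹ ∈ Xp φ 5 := conj_nn t4 hy
  obtain ⟨c, hc, hcX⟩ := exists_xB φ hv
  refine ⟨c, ?_, hc, hcX ▸ hv, n1 * ⁅l, y⁆ * n1⁻¹, hw, ?_⟩
  · rintro rfl
    rw [(D4.good : Good chevD4).xg_zero, conj_eq_one_iff, hydef, conj_eq_one_iff] at hcX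
    exact hz1 hcX
  · have e : n1 * l * n0 * z * (n1 * l * n0)⁻¹ = (n1 * ⁅l, y⁆ * n1⁻¹) * (n1 * y * n1⁻¹) := by
      rw [hydef, commutatorElement_def]; group
    rw [e, hcX, (highest_commute (by norm_num) (hcX ▸ hv : X 14 c ∈ Xp φ 5) hw).eq]

/-- The middle root element of two root elements at distance two. -/
theorem middle {z a l b m z' : GL chevD4.Idx K} (hz : z ∈ Xp φ 3) (hz1 : z ≠ 1) (ha : a ∈ Xp φ 0)
    (hb : b ∈ Xp φ 0) (hl : l ∈ Xp φ 5) (hm : m ∈ Xp φ 5) (hz' : z' ∈ Xp φ 3) (hz'1 : z' ≠ 1) :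
    ∃ w ∈ Xp φ 3, w ≠ 1 ∧
      ⁅z, a * ((tw3D4 φ).data.nn 1 * l * (tw3D4 φ).data.nn 0) *
        (b * ((tw3D4 φ).data.nn 1 * m * (tw3D4 φ).data.nn 0 * z' *
          ((tw3D4 φ).data.nn 1 * m * (tw3D4 φ).data.nn 0)⁻¹) * b⁻¹) *
        (a * ((tw3D4 φ).data.nn 1 * l * (tw3D4 φ).data.nn 0))⁻¹⁆ =
      a * ((tw3D4 φ).data.nn 1 * l * (tw3D4 φ).data.nn 0 * w *
        ((tw3D4 φ).data.nn 1 * l * (tw3D4 φ).data.nn 0)⁻¹) * a⁻¹ := by
  obtain ⟨t1, t2, t3, t4, t5⟩ := refl_table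
  obtain ⟨c, hc0, -, hcX, v, hv, e⟩ := chain_form hm hz' hz'1
  set n0 := (tw3D4 φ).data.nn 0
  set n1 := (tw3D4 φ).data.nn 1
  rw [e]
  set E := n1 * l * n0 with hE
  have hz0 : n1⁻¹ * z * n1 ∈ Xp φ 3 := conj_nn_inv t5 hz
  have hz1' : E⁻¹ * z * E ∈ Xp φ 1 := by
    have c5 : Commute l (n1⁻¹ * z * n1) := highest_commute (by norm_num) hl hz0
    have : E⁻¹ * z * E = n0⁻¹ * (l⁻¹ * ((n1⁻¹ * z * n1) * l)) * n0 := by rw [hE]; group
    rw [this, ← c5.eq, inv_mul_cancel_left]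
    exact conj_nn_inv t1 hz0
  set z1 := E⁻¹ * z * E with hz1def
  have hz1ne : z1 ≠ 1 := fun e1 => hz1 (by
    have : z = E * z1 * E⁻¹ := by rw [hz1def]; group
    rw [this, e1, mul_one, mul_inv_cancel])
  obtain ⟨h3, h3ne⟩ := comm_long hcX hz1'
  have hw : ⁅z1, X 14 c⁆ ∈ Xp φ 3 := by rw [← commutatorElement_inv]; exact Subgroup.inv_mem _ h3
  have hw1 : ⁅z1, X 14 c⁆ ≠ 1 := fun e1 => h3ne (fun e2 => hc0 (D4Stem.xg_eq_one (K := K) (by omega) (by omega) e2))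
    hz1ne (by rw [← commutatorElement_inv, e1, inv_one])
  set w := ⁅z1, X 14 c⁆ with hwdef
  refine ⟨w, hw, hw1, ?_⟩
  have k1 : a⁻¹ * z * a = z := by
    rw [mul_assoc, ← (highest_commute (by norm_num) ha hz).eq, inv_mul_cancel_left]
  have k2 : Commute z1 b := (D4Stem.commute_places (i := 0) (j := 1) (by simp) hb hz1').symm
  have k3 : Commute z1 v := D4Stem.commute_places (i := 1) (j := 3) (by simp) hz1' hv
  have k4 : ⁅z1, X 14 c * v⁆ = w := by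
    rw [hwdef, show ⁅z1, X 14 c * v⁆ = ⁅z1, X 14 c⁆ * (X 14 c * ⁅z1, v⁆ * (X 14 c)⁻¹) by
      simp only [commutatorElement_def]; group, commutatorElement_eq_one_iff_commute.2 k3]
    group
  have k5 : ⁅z1, b * (X 14 c * v) * b⁻¹⁆ = w := by
    have hb' : b⁻¹ * z1 * b = z1 := by rw [mul_assoc, k2.eq, inv_mul_cancel_left]
    rw [show ⁅z1, b * (X 14 c * v) * b⁻¹⁆ = b * ⁅b⁻¹ * z1 * b, X 14 c * v⁆ * b⁻¹ by
      simp only [commutatorElement_def]; group, hb', k4, (highest_commute (by norm_num) hb hw).eq,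
      mul_inv_cancel_right]
  calc ⁅z, a * E * (b * (X 14 c * v) * b⁻¹) * (a * E)⁻¹⁆
      = a * (E * ⁅E⁻¹ * (a⁻¹ * z * a) * E, b * (X 14 c * v) * b⁻¹⁆ * E⁻¹) * a⁻¹ := by
        simp only [commutatorElement_def]; group
    _ = _ := by rw [k1, ← hz1def, k5]

/-- Words for the cells modulo the parabolic subgroup. -/
def baseWords : List (List (Fin 2)) := [[], [0], [1, 0], [0, 1, 0], [1, 0, 1, 0], [0, 1, 0, 1, 0]]

/-- Words for all cells. -/
def allWords : List (List (Fin 2)) := baseWords ++ baseWords.map (· ++ [1])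

theorem words_closed : ∀ j : Fin 2, ∀ l ∈ allWords, ∃ l' ∈ allWords, ∀ o : Fin 12,
    (j :: l).foldr (orbD4.reflF 12 2) o = l'.foldr (orbD4.reflF 12 2) o := by decide +kernel

theorem exists_word (l : List (Fin 2)) : ∃ l' ∈ allWords, (tw3D4 φ).data.wl l = (tw3D4 φ).data.wl l' := by
  induction l with
  | nil => exact ⟨[], by simp [allWords, baseWords], rfl⟩
  | cons j l ih =>
    obtain ⟨l', hl', e⟩ := ih
    obtain ⟨l'', hl'', e'⟩ := words_closed j l' hl'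
    refine ⟨l'', hl'', ?_⟩
    rw [Data.wl_cons, e, ← Data.wl_cons]
    refine Equiv.ext fun o => ?_
    rw [D4Invol.wl_apply, D4Invol.wl_apply]
    exact e' o

/-- Peel the first letter. -/
theorem cell_cons {j : Fin 2} {l : List (Fin 2)} {g : GL chevD4.Idx K}
    (hg : g ∈ (tw3D4 φ).data.cell ((tw3D4 φ).data.wl (j :: l))) :
    ∃ y ∈ (tw3D4 φ).data.X ((tw3D4 φ).data.simp j), ∃ g' ∈ (tw3D4 φ).data.cell ((tw3D4 φ).data.wl l),
      g = y * (tw3D4 φ).data.nn j * g' := by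
  have ax := hax φ
  obtain ⟨b, hb, c, hc, rfl⟩ := (Data.mem_cell_iff ax (Data.nw_mem_N _) (Data.acts_nw ax _)).1 hg
  obtain ⟨y, hy, v, hv, t, ht, rfl⟩ := Data.B_decomp ax j hb
  refine ⟨y, hy, ((tw3D4 φ).data.nn j)⁻¹ * (v * t) * (tw3D4 φ).data.nn j * (tw3D4 φ).data.nw l * c,
    Data.mul_mem_cell (Data.mem_cell_of (Data.nw_mem_N l) (Data.acts_nw ax l)) (Data.nn_conj_rad ax hv ht).2 hc, ?_⟩
  rw [Data.nw_cons]
  group

theorem cell_snoc {l : List (Fin 2)} {g : GL chevD4.Idx K}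
    (hg : g ∈ (tw3D4 φ).data.cell ((tw3D4 φ).data.wl (l ++ [1]))) :
    ∃ g' ∈ (tw3D4 φ).data.cell ((tw3D4 φ).data.wl l), ∃ p, InP φ p ∧ g = g' * p := by
  have ax := hax φ
  obtain ⟨b, hb, c, hc, rfl⟩ := (Data.mem_cell_iff ax (Data.nw_mem_N _) (Data.acts_nw ax _)).1 hg
  refine ⟨b * (tw3D4 φ).data.nw l,
    by simpa using Data.mul_mem_cell (Data.mem_cell_of (Data.nw_mem_N l) (Data.acts_nw ax l)) hb (Subgroup.one_mem _),
    (tw3D4 φ).data.nn 1 * c, Or.inr ?_, ?_⟩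
  · simpa using Data.mul_mem_cell (Data.mem_cell_of (Data.nn_mem_N 1) (Data.acts_nn ax 1)) (Subgroup.one_mem _) hc
  · rw [Data.nw_append, Data.nw_cons, Data.nw_nil, mul_one]
    group

variable [Fintype K] {q : ℕ} (h : Hyp φ q) {H : Subgroup (GL chevD4.Idx K)}
  (hM : MF φ ≤ H) (hH : H ≤ (tw3D4 φ).Gt) (hne : H ≠ (tw3D4 φ).Gt)
include h hM hH hne

theorem inP_fixed {x : GL chevD4.Idx K} (hx : x ∈ H) (hP : InP φ x) : x ∈ fixT φ := by
  rcases hP with hP | hP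
  · exact borel_fixed h hM hH hne x hx hP
  · exact parabolic_fixed h hM hH hne 1 x hx hP

/-- A conjugate long root element in the subgroup forces a fixed parameter. -/
theorem fix_of_chain {t : K} {l z : GL chevD4.Idx K} (hl : l ∈ Xp φ 5) (hz : z ∈ Xp φ 3) (hz1 : z ≠ 1)
    (hmem : eA φ t * ((tw3D4 φ).data.nn 1 * l * (tw3D4 φ).data.nn 0 * z *
      ((tw3D4 φ).data.nn 1 * l * (tw3D4 φ).data.nn 0)⁻¹) * (eA φ t)⁻¹ ∈ H) : φ t = t := by
  obtain ⟨c, hc0, hc, hcX, w, hw, e⟩ := chain_form hl hz hz1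
  rw [e] at hmem
  have ht : eA φ t ∈ Xp φ 0 := eA_mem φ h.cube t
  have hu : eA φ t * (X 14 c * w) * (eA φ t)⁻¹ ∈ (tw3D4 φ).data.U := by
    have u0 : eA φ t ∈ (tw3D4 φ).data.U := Xp_le_U (i := 0) (by norm_num) ht
    have u5 : X 14 c ∈ (tw3D4 φ).data.U := Xp_le_U (i := 5) (by norm_num) hcX
    have u3 : w ∈ (tw3D4 φ).data.U := Xp_le_U (i := 3) (by norm_num) hw
    exact Subgroup.mul_mem _ (Subgroup.mul_mem _ u0 (Subgroup.mul_mem _ u5 u3)) (Subgroup.inv_mem _ u0)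
  have hfix := unipotent_fixed h hM hH hne _ hmem hu
  have hw' : eA φ t * w * (eA φ t)⁻¹ = w := by
    rw [(highest_commute (by norm_num) ht hw).eq, mul_inv_cancel_right]
  rw [show eA φ t * (X 14 c * w) * (eA φ t)⁻¹ =
    (eA φ t * X 14 c * (eA φ t)⁻¹) * (eA φ t * w * (eA φ t)⁻¹) by group, hw',
    (fixT φ).mul_mem_cancel_right (long_fix (by simp) hw), mem_fixT, map_mul, map_mul, map_inv, theta_xg, hc,
    show theta φ (eA φ t) = eA φ (φ t) by simp [eA, map_mul]] at hfix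
  have hd : (eA φ t)⁻¹ * eA φ (φ t) = eA φ (φ t - t) := by
    rw [inv_mul_eq_iff_eq_mul, eA_add, add_sub_cancel]
  have hcomm : Commute (X 14 c) (eA φ (φ t - t) * 1) := by
    rw [mul_one, ← hd]
    show _ = _
    calc X 14 c * ((eA φ t)⁻¹ * eA φ (φ t))
        = (eA φ t)⁻¹ * (eA φ t * X 14 c * (eA φ t)⁻¹) * eA φ (φ t) := by group
      _ = _ := by rw [← hfix]; group
  exact sub_eq_zero.1 (first_zero φ hc0 (Subgroup.one_mem _) hcomm)

theorem base_nil : ∀ g ∈ (tw3D4 φ).data.cell ((tw3D4 φ).data.wl []), ∀ p, InP φ p → g * p ∈ H →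
    g * p ∈ fixT φ := by
  intro g hg p hp hx
  rw [Data.wl_nil, Data.mem_cell_one (hax φ)] at hg
  exact inP_fixed h hM hH hne hx (inP_mul hg hp)

theorem step_zero {l : List (Fin 2)}
    (ih : ∀ g ∈ (tw3D4 φ).data.cell ((tw3D4 φ).data.wl l), ∀ p, InP φ p → g * p ∈ H → g * p ∈ fixT φ) :
    ∀ g ∈ (tw3D4 φ).data.cell ((tw3D4 φ).data.wl (0 :: l)), ∀ p, InP φ p → g * p ∈ H → g * p ∈ fixT φ := by
  intro g hg p hp hx
  obtain ⟨y, hy, g', hg', rfl⟩ := cell_cons hg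
  have hy5 : y ∈ Xp φ 5 := by
    have := hy
    rw [D4Invol.simp_eq, Jl_facts.2.2.2.2.2.2.1] at this
    exact this
  have hyn : y * (tw3D4 φ).data.nn 0 ∈ MF φ :=
    Subgroup.mul_mem _ ⟨D4Stem.Xp_le_Gt φ 5 hy5, long_fix (by simp) hy5⟩ ⟨nn_mem_Gt φ 0, nn_mem_fixT φ 0⟩
  rw [mul_assoc] at hx ⊢
  exact (fixT φ).mul_mem hyn.2 (ih g' hg' p hp ((H.mul_mem_cancel_left (hM hyn)).1 hx))

theorem case_one : ∀ g ∈ (tw3D4 φ).data.cell ((tw3D4 φ).data.wl [1, 0]), ∀ p, InP φ p → g * p ∈ H →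
    g * p ∈ fixT φ := by
  intro g hg p hp hx
  obtain ⟨y, hy, g', hg', rfl⟩ := cell_cons hg
  have hy0 : y ∈ (tw3D4 φ).X' 6 := by
    have := hy
    rw [D4Invol.simp_eq, Jl_facts.2.2.2.2.2.2.2] at this
    exact this
  obtain ⟨t, rfl⟩ := exists_eA φ hy0
  obtain ⟨l, hl, b, hb, rfl⟩ := cell_cons hg'
  rw [Data.wl_nil, Data.mem_cell_one (hax φ)] at hb
  have hl5 : l ∈ Xp φ 5 := by
    have := hl
    rw [D4Invol.simp_eq, Jl_facts.2.2.2.2.2.2.1] at this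
    exact this
  set n0 := (tw3D4 φ).data.nn 0
  set n1 := (tw3D4 φ).data.nn 1
  have ht : φ t = t := by
    -- a highest root element
    set z := n0 * (n1 * X 14 (1 : K) * n1⁻¹) * n0⁻¹ with hzdef
    have hz : z ∈ Xp φ 3 := conj_nn refl_table.1 (conj_nn refl_table.2.2.1 (D4Invol.xB_mem φ (map_one φ)))
    have hz1 : z ≠ 1 := fun e => one_ne_zero (D4Stem.xg_eq_one (K := K) (r := 14) (t := 1) (by omega) (by omega)
      (conj_eq_one_iff.1 (conj_eq_one_iff.1 e)))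
    have hbp : InP φ (b * p) := inP_mul hb hp
    refine fix_of_chain h hM hH hne hl5 (highest_P hbp hz) (fun e => hz1 (conj_eq_one_iff.1 e)) ?_
    have hzH : z ∈ H := hM ⟨D4Stem.Xp_le_Gt φ 3 hz, long_fix (by simp) hz⟩
    have := H.mul_mem (H.mul_mem hx hzH) (H.inv_mem hx)
    convert this using 1
    simp only [n0, n1]
    group
  have hm : eA φ t * n1 * (l * n0) ∈ MF φ :=
    Subgroup.mul_mem _ (Subgroup.mul_mem _ ⟨eA_mem' φ h.cube t, (eA_fix_iff φ).2 ht⟩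
      ⟨nn_mem_Gt φ 1, nn_mem_fixT φ 1⟩)
      (Subgroup.mul_mem _ ⟨D4Stem.Xp_le_Gt φ 5 hl5, long_fix (by simp) hl5⟩ ⟨nn_mem_Gt φ 0, nn_mem_fixT φ 0⟩)
  have e : eA φ t * n1 * (l * n0 * b) * p = eA φ t * n1 * (l * n0) * (b * p) := by group
  rw [e] at hx ⊢
  exact (fixT φ).mul_mem hm.2 (inP_fixed h hM hH hne ((H.mul_mem_cancel_left (hM hm)).1 hx) (inP_mul hb hp))

theorem case_two : ∀ g ∈ (tw3D4 φ).data.cell ((tw3D4 φ).data.wl [1, 0, 1, 0]), ∀ p, InP φ p → g * p ∈ H →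
    g * p ∈ fixT φ := by
  intro g hg p hp hx
  obtain ⟨y, hy, g₁, hg₁, rfl⟩ := cell_cons hg
  have hy0 : y ∈ (tw3D4 φ).X' 6 := by
    have := hy
    rw [D4Invol.simp_eq, Jl_facts.2.2.2.2.2.2.2] at this
    exact this
  obtain ⟨t, rfl⟩ := exists_eA φ hy0
  obtain ⟨l, hl, g₂, hg₂, rfl⟩ := cell_cons hg₁
  have hl5 : l ∈ Xp φ 5 := by
    have := hl
    rw [D4Invol.simp_eq, Jl_facts.2.2.2.2.2.2.1] at this
    exact this
  have hkey := case_one h hM hH hne g₂ hg₂ p hp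
  obtain ⟨y', hy', g₃, hg₃, rfl⟩ := cell_cons hg₂
  have hy0' : y' ∈ Xp φ 0 := by
    have := hy'
    rw [D4Invol.simp_eq, Jl_facts.2.2.2.2.2.2.2] at this
    exact this
  obtain ⟨m, hm, b, hb, rfl⟩ := cell_cons hg₃
  rw [Data.wl_nil, Data.mem_cell_one (hax φ)] at hb
  have hm5 : m ∈ Xp φ 5 := by
    have := hm
    rw [D4Invol.simp_eq, Jl_facts.2.2.2.2.2.2.1] at this
    exact this
  set n0 := (tw3D4 φ).data.nn 0
  set n1 := (tw3D4 φ).data.nn 1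
  have ht : φ t = t := by
    set z := n0 * (n1 * X 14 (1 : K) * n1⁻¹) * n0⁻¹ with hzdef
    have hz : z ∈ Xp φ 3 := conj_nn refl_table.1 (conj_nn refl_table.2.2.1 (D4Invol.xB_mem φ (map_one φ)))
    have hz1 : z ≠ 1 := fun e => one_ne_zero (D4Stem.xg_eq_one (K := K) (r := 14) (t := 1) (by omega) (by omega)
      (conj_eq_one_iff.1 (conj_eq_one_iff.1 e)))
    have hzH : z ∈ H := hM ⟨D4Stem.Xp_le_Gt φ 3 hz, long_fix (by simp) hz⟩
    have hbp : InP φ (b * p) := inP_mul hb hp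
    obtain ⟨w, hw, hw1, e⟩ := middle hz hz1 (eA_mem φ h.cube t) hy0' hl5 hm5 (highest_P hbp hz)
      (fun e => hz1 (conj_eq_one_iff.1 e))
    refine fix_of_chain h hM hH hne hl5 hw hw1 ?_
    rw [← e, commutatorElement_def]
    have hxz := H.mul_mem (H.mul_mem hx hzH) (H.inv_mem hx)
    have := H.mul_mem (H.mul_mem (H.mul_mem hzH hxz) (H.inv_mem hzH)) (H.inv_mem hxz)
    convert this using 1
    simp only [n0, n1]
    group
  have hmM : eA φ t * n1 * (l * n0) ∈ MF φ :=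
    Subgroup.mul_mem _ (Subgroup.mul_mem _ ⟨eA_mem' φ h.cube t, (eA_fix_iff φ).2 ht⟩
      ⟨nn_mem_Gt φ 1, nn_mem_fixT φ 1⟩)
      (Subgroup.mul_mem _ ⟨D4Stem.Xp_le_Gt φ 5 hl5, long_fix (by simp) hl5⟩ ⟨nn_mem_Gt φ 0, nn_mem_fixT φ 0⟩)
  have e : eA φ t * n1 * (l * n0 * (y' * n1 * (m * n0 * b))) * p =
      eA φ t * n1 * (l * n0) * (y' * n1 * (m * n0 * b) * p) := by group
  rw [e] at hx ⊢
  exact (fixT φ).mul_mem hmM.2 (hkey ((H.mul_mem_cancel_left (hM hmM)).1 hx))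

/-- Maximality. -/
theorem le_fixT : ∀ x ∈ H, x ∈ fixT φ := by
  intro x hx
  obtain ⟨l, hl⟩ := Data.exists_cell (hax φ) (g := x) (hH hx)
  obtain ⟨l', hl', e⟩ := exists_word (φ := φ) l
  rw [e] at hl
  have s0 := base_nil h hM hH hne
  have s1 := step_zero h hM hH hne s0
  have s2 := case_one h hM hH hne
  have s3 := step_zero h hM hH hne s2
  have s4 := case_two h hM hH hne
  have s5 := step_zero h hM hH hne s4
  have hall : ∀ l ∈ baseWords, ∀ g ∈ (tw3D4 φ).data.cell ((tw3D4 φ).data.wl l), ∀ p, InP φ p → g * p ∈ H →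
      g * p ∈ fixT φ := by
    intro l hl
    simp only [baseWords, List.mem_cons, List.not_mem_nil, or_false] at hl
    rcases hl with rfl | rfl | rfl | rfl | rfl | rfl
    exacts [s0, s1, s2, s3, s4, s5]
  rcases List.mem_append.1 hl' with hb | hb
  · simpa using hall l' hb x hl 1 (Or.inl (Subgroup.one_mem _)) (by simpa using hx)
  · obtain ⟨l₀, hl₀, rfl⟩ := List.mem_map.1 hb
    obtain ⟨g', hg', p, hp, rfl⟩ := cell_snoc hl
    exact hall l₀ hl₀ g' hg' p hp hx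

omit hM hH hne in
theorem MF_ne_Gt : MF φ ≠ (tw3D4 φ).Gt := by
  intro e
  obtain ⟨t, ht⟩ : ∃ t : K, φ t ≠ t := by
    by_contra hall
    push Not at hall
    have h1 : q = q ^ 3 := by
      rw [← h.card, ← h.fixed, ← Nat.card_eq_fintype_card]
      exact Nat.card_congr (Equiv.subtypeUnivEquiv hall)
    have h2 : q * 1 < q * (q * q) := Nat.mul_lt_mul_of_pos_left
      (lt_of_lt_of_le one_lt_two (le_trans h.two_le (Nat.le_mul_of_pos_left _ (by have := h.two_le; omega))))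
      (by have := h.two_le; omega)
    rw [mul_one, show q * (q * q) = q ^ 3 by ring] at h2
    omega
  exact ht ((eA_fix_iff φ).1 (e ▸ eA_mem' φ h.cube t : eA φ t ∈ MF φ).2)

omit hM hH hne in
/-- The fixed elements form a maximal subgroup. -/
theorem maximal (H : Subgroup (GL chevD4.Idx K)) (hM : MF φ ≤ H) (hH : H ≤ (tw3D4 φ).Gt) :
    H = MF φ ∨ H = (tw3D4 φ).Gt :=
  or_iff_not_imp_right.2 fun hne => le_antisymm (fun x hx => ⟨hH hx, le_fixT h hM hH hne x hx⟩) hM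

end Cfsg.Agent.D4Sub
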